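import Groth.Agent.Fibres16.NormAmp.Descent
import Groth.Agent.EtShriekLib.Proper
import Groth.Agent.EtStruct.UnibranchGlobal
import Groth.Agent.Thick.Unram
import Groth.Agent.CycLib.ModStalk
import Groth.Agent.Desc44.ProjBundle.Quot
import Groth.Agent.Props.QProj
import Groth.Agent.ProjTwist.Invertible

/-!
# Descent of ampleness: normal points and points with free direct image
-/

set_option autoImplicit false
set_option linter.style.haveILetI false

universe u

open CategoryTheory CategoryTheory.Limits AlgebraicGeometry TopologicalSpace Opposite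

noncomputable section

namespace Groth.Agent.Fibres16.NormAmp

open Groth.Agent.QCoh Groth.Agent.AmpleLib Groth.Agent.AmpleLib.GenNorm

variable {X X₁ : Scheme.{u}}

theorem hasNmOn_of_pointwise (h : X₁ ⟶ X) [IsFinite h] [IsNoetherian X] [IsReduced X] (D : ℕ) {V : X.Opens}
    (H : ∀ z ∈ V, (IsDomain (X.presheaf.stalk z) ∧ IsIntegrallyClosed (X.presheaf.stalk z)) ∨
      ∃ (U : X.Opens) (d : ℕ) (b : Fin d → Γ(pushO h, U)), z ∈ U ∧ LFFrame.IsFrame (pushO h) U b) :
    HasNmOn h D V := by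
  intro z V₀ hz hV f
  rcases H z (hV hz) with ⟨h1, h2⟩ | ⟨U, d, b, hzU, hb⟩
  · exact exists_isNm_of_normal h D hz f
  · obtain ⟨A, hA, hzA, hAle⟩ := exists_isAffineOpen_mem_and_subset (X := X) (x := z) (U := U ⊓ V₀) ⟨hzU, hz⟩
    have hb' : LFFrame.IsFrame (pushO h) A (fun j => res (pushO h) (hAle.trans inf_le_left) (b j)) :=
      isFrame_restrict hb _
    exact ⟨A, hAle.trans inf_le_right, _, hzA, isNm_nrm h D hA hb' _ (k := D / d)
      fun η _ hη => by rw [rk_eq h hA hη hb']⟩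

/-- The direct image of the structure sheaf is free near `x`. -/
def FreeNear (h : X₁ ⟶ X) (x : X) : Prop :=
  ∃ (A : X.Opens) (d : ℕ), x ∈ A ∧ IsAffineOpen A ∧ Nonempty (Module.Basis (Fin d) Γ(X, A) Γ(pushO h, A))

theorem isQuasicoherent_pushO (h : X₁ ⟶ X) [IsFinite h] : (pushO h).IsQuasicoherent :=
  haveI := ProjTwist.isQuasicoherent_structureModule X₁
  QCoh.isQuasicoherent_pushforward h _

/-- A free affine neighbourhood may be shrunk. -/
theorem FreeNear.shrink {h : X₁ ⟶ X} [IsFinite h] {x : X} (hx : FreeNear h x) {U : X.Opens} (hxU : x ∈ U) :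
    ∃ (A : X.Opens) (d : ℕ), x ∈ A ∧ A ≤ U ∧ IsAffineOpen A ∧
      Nonempty (Module.Basis (Fin d) Γ(X, A) Γ(pushO h, A)) := by
  obtain ⟨A₀, d, hxA₀, hA₀, ⟨b⟩⟩ := hx
  obtain ⟨A, hA, hxA, hAle⟩ := exists_isAffineOpen_mem_and_subset (X := X) (x := x) (U := A₀ ⊓ U) ⟨hxA₀, hxU⟩
  haveI := isQuasicoherent_pushO h
  obtain ⟨B, -⟩ := exists_basis_of_isFrame (Desc44.ProjBundle.isFrame_of_basis hA₀ b) (hAle.trans inf_le_left)
  exact ⟨A, d, hxA, hAle.trans inf_le_right, hA, ⟨B⟩⟩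

/-- A basis of the functions upstairs over an affine open stays a basis after an affine base change. -/
theorem exists_basis_baseChange {X' X₁' : Scheme.{u}} {h : X₁ ⟶ X} {i : X' ⟶ X} {g : X₁' ⟶ X₁} {h' : X₁' ⟶ X'}
    [IsFinite h] [IsFinite h'] (hc : IsPullback g h' h i) {A : X.Opens} (hA : IsAffineOpen A)
    (hiA : IsAffineOpen (i ⁻¹ᵁ A)) {d : ℕ} (b : Module.Basis (Fin d) Γ(X, A) Γ(pushO h, A)) :
    Nonempty (Module.Basis (Fin d) Γ(X', i ⁻¹ᵁ A) Γ(pushO h', i ⁻¹ᵁ A)) := by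
  have e' : g ⁻¹ᵁ (h ⁻¹ᵁ A) ≤ h' ⁻¹ᵁ (i ⁻¹ᵁ A) := by
    rw [← Scheme.Hom.comp_preimage, hc.w, Scheme.Hom.comp_preimage]
  have hpo : IsPushout (h.appLE A (h ⁻¹ᵁ A) le_rfl) (i.app A) (g.app (h ⁻¹ᵁ A))
      (h'.appLE (i ⁻¹ᵁ A) (g ⁻¹ᵁ (h ⁻¹ᵁ A)) e') := by
    have hUY : g ⁻¹ᵁ (h ⁻¹ᵁ A) = g ⁻¹ᵁ (h ⁻¹ᵁ A) ⊓ h' ⁻¹ᵁ (i ⁻¹ᵁ A) := (inf_eq_left.mpr e').symm
    have h0 := (isIso_pushoutSection_iff hc le_rfl le_rfl hUY).mp
      (isIso_pushoutSection_of_isAffineOpen hc le_rfl le_rfl hUY hA hiA (hA.preimage h))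
    simpa [Scheme.Hom.app_eq_appLE] using h0
  have key : ∀ (U' : X₁'.Opens) (_ : U' = h' ⁻¹ᵁ (i ⁻¹ᵁ A)) (a : Γ(X₁, h ⁻¹ᵁ A) ⟶ Γ(X₁', U'))
      (hle : U' ≤ h' ⁻¹ᵁ (i ⁻¹ᵁ A)),
      IsPushout (h.appLE A (h ⁻¹ᵁ A) le_rfl) (i.app A) a (h'.appLE (i ⁻¹ᵁ A) U' hle) →
      ∃ a' : Γ(X₁, h ⁻¹ᵁ A) ⟶ Γ(X₁', h' ⁻¹ᵁ (i ⁻¹ᵁ A)), IsPushout (h.app A) (i.app A) a' (h'.app (i ⁻¹ᵁ A)) := by
    rintro U' rfl a hle hp
    exact ⟨a, by simpa only [Scheme.Hom.app_eq_appLE] using hp⟩
  obtain ⟨a', hp⟩ := key _ (by rw [← Scheme.Hom.comp_preimage, hc.w, Scheme.Hom.comp_preimage]) _ e' hpo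
  letI := (h.app A).hom.toAlgebra
  letI := (i.app A).hom.toAlgebra
  letI := (h'.app (i ⁻¹ᵁ A)).hom.toAlgebra
  letI := a'.hom.toAlgebra
  letI : Algebra Γ(X, A) Γ(X₁', h' ⁻¹ᵁ (i ⁻¹ᵁ A)) :=
    ((h'.app (i ⁻¹ᵁ A)).hom.comp (i.app A).hom).toAlgebra
  haveI : IsScalarTower Γ(X, A) Γ(X', i ⁻¹ᵁ A) Γ(X₁', h' ⁻¹ᵁ (i ⁻¹ᵁ A)) := IsScalarTower.of_algebraMap_eq' rfl
  haveI : IsScalarTower Γ(X, A) Γ(X₁, h ⁻¹ᵁ A) Γ(X₁', h' ⁻¹ᵁ (i ⁻¹ᵁ A)) :=
    IsScalarTower.of_algebraMap_eq fun c => congr($(hp.w.symm) c)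
  have hP : Algebra.IsPushout Γ(X, A) Γ(X', i ⁻¹ᵁ A) Γ(X₁, h ⁻¹ᵁ A) Γ(X₁', h' ⁻¹ᵁ (i ⁻¹ᵁ A)) :=
    (CommRingCat.isPushout_iff_isPushout).mp hp.flip
  let B : Module.Basis (Fin d) Γ(X, A) Γ(X₁, h ⁻¹ᵁ A) := b
  let B₀ := hP.out.basis B
  exact ⟨(B₀ : Module.Basis (Fin d) Γ(X', i ⁻¹ᵁ A) Γ(pushO h', i ⁻¹ᵁ A))⟩

/-- A free stalk of the direct image gives a free affine neighbourhood. -/
theorem freeNear_of_free_stalk (h : X₁ ⟶ X) [IsFinite h] [IsLocallyNoetherian X] {x : X}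
    (hx : Module.Free (X.presheaf.stalk x) ((pushO h).presheaf.stalk x)) : FreeNear h x := by
  haveI := ProjTwist.isQuasicoherent_structureModule X₁
  haveI : (pushO h).IsQuasicoherent := QCoh.isQuasicoherent_pushforward h _
  obtain ⟨U, hU, hxU, -⟩ := exists_isAffineOpen_mem_and_subset (X := X) (Opens.mem_top x)
  haveI : IsNoetherianRing Γ(X, U) := IsLocallyNoetherian.component_noetherian ⟨U, hU⟩
  haveI : Module.Finite Γ(X, U) Γ(pushO h, U) := h.finite_app U hU
  obtain ⟨V, n, hxV, ⟨e⟩⟩ := Props.QProj.exists_free_nhd (pushO h) hU hxU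
    (Module.finitePresentation_of_finite _ _) hx
  obtain ⟨A, hA, hxA, hAV⟩ := exists_isAffineOpen_mem_and_subset (X := X) (x := x) (U := V) hxV
  exact ⟨A, n, hxA, hA, Props.QProj.free_sections_of_restrict_iso _ e hA hAV⟩

variable {R : Type u} [CommRing R] [IsNoetherianRing R] (p : X ⟶ Spec (CommRingCat.of R))
  [LocallyOfFiniteType p] [IsSeparated p] [IsNoetherian X] (h : X₁ ⟶ X) [IsFinite h] [Surjective h]

/-- Ampleness descends along a finite surjective morphism if off a proper closed set the points are normal or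
have free direct image. -/
theorem isAmple_of_pullback' (Z : Closeds X)
    (hZ : IsProper ((Scheme.IdealSheafData.vanishingIdeal Z).subschemeι ≫ p))
    (hreg : ∀ x : X, x ∉ (Z : Set X) → (IsDomain (X.presheaf.stalk x) ∧ IsIntegrallyClosed (X.presheaf.stalk x)) ∨
      FreeNear h x)
    {L : X.Modules} (hL : PicF.IsInvertible L)
    (hA : CohB1.IsAmple ((Scheme.Modules.pullback h).obj L)) : CohB1.IsAmple L := by
  let i := X.nilradical.subschemeι
  haveI : IsReduced X.nilradical.subscheme :=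
    Scheme.IdealSheafData.vanishingIdeal_top (X := X) ▸ RedSub.isReduced_vanishingIdeal _
  have hi : Function.Surjective i := fun x => by
    have : x ∈ Set.range i := by
      rw [Scheme.IdealSheafData.range_subschemeι, Scheme.support_nilradical]; trivial
    exact this
  haveI : Surjective i := ⟨hi⟩
  haveI : IsLocallyNoetherian X.nilradical.subscheme := LocallyOfFiniteType.isLocallyNoetherian i
  haveI : CompactSpace X.nilradical.subscheme := QuasiCompact.compactSpace_of_compactSpace i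
  haveI : IsNoetherian X.nilradical.subscheme := ⟨⟩
  let g := pullback.fst h i
  let h' := pullback.snd h i
  haveI : IsClosedImmersion g := MorphismProperty.pullback_fst h i inferInstance
  haveI : IsFinite h' := MorphismProperty.pullback_snd h i inferInstance
  haveI : Surjective h' := MorphismProperty.pullback_snd h i inferInstance
  let Z' : Closeds X.nilradical.subscheme := ⟨i ⁻¹' Z, Z.isClosed.preimage i.continuous⟩
  have hZ' : IsProper ((Scheme.IdealSheafData.vanishingIdeal Z').subschemeι ≫ i ≫ p) := by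
    let Zι := (Scheme.IdealSheafData.vanishingIdeal Z).subschemeι
    let k := pullback.snd Zι i
    haveI : IsClosedImmersion k := MorphismProperty.pullback_snd Zι i inferInstance
    haveI : IsClosedImmersion (pullback.fst Zι i) := MorphismProperty.pullback_fst Zι i inferInstance
    haveI : IsProper (k ≫ i ≫ p) := by
      rw [← reassoc_of% pullback.condition]; infer_instance
    obtain ⟨_, hp⟩ := EtShriekLib.ipo_of_immersion (i ≫ p) k Z'.isClosed (by
      intro y hy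
      rw [Scheme.Pullback.range_snd, Scheme.IdealSheafData.range_subschemeι,
        Scheme.IdealSheafData.coe_support_vanishingIdeal]
      exact hy)
    exact hp
  refine Wt.AmpleThick.isAmple_of_pullback i hL ?_
  refine isAmple_of_pullback (i ≫ p) h' Z' hZ' ?_ (PicCl.isInvertible_pullback i hL) ?_
  · intro D V hV _
    refine hasNmOn_of_pointwise h' D fun z hz => ?_
    rcases hreg (i z) (fun hzZ => hV.le_bot ⟨hz, hzZ⟩) with ⟨h1, h2⟩ | hfree
    · left
      have hker : RingHom.ker (i.stalkMap z).hom = ⊥ := by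
        rw [EtStruct.ker_stalkMap_eq_nilradical i hi z]
        exact nilradical_eq_zero _
      let e := RingEquiv.ofBijective (i.stalkMap z).hom
        ⟨(RingHom.injective_iff_ker_eq_bot _).2 hker, i.stalkMap_surjective z⟩
      exact ⟨e.toMulEquiv.isDomain_iff.mp h1, IsIntegrallyClosed.of_equiv e⟩
    · right
      obtain ⟨A, d, hxA, hA, ⟨b⟩⟩ := hfree
      obtain ⟨b'⟩ := exists_basis_baseChange (IsPullback.of_hasPullback h i) hA (hA.preimage i) b
      haveI := isQuasicoherent_pushO h'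
      exact ⟨i ⁻¹ᵁ A, d, b', hxA, Desc44.ProjBundle.isFrame_of_basis (hA.preimage i) b'⟩
  · refine AmpleLib.isAmple_of_iso ?_ (Wt.AmpleThick.isAmple_pullback g hA)
    exact ((Scheme.Modules.pullbackComp g h).app L) ≪≫
      ((Scheme.Modules.pullbackCongr (pullback.condition : g ≫ h = h' ≫ i)).app L) ≪≫
      ((Scheme.Modules.pullbackComp h' i).app L).symm

/-- A closed subset proper over the base stays proper over an open of the base. -/
theorem isProper_restrict {X Y : Scheme.{u}} (f : X ⟶ Y) (Z : Closeds X)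
    (hZ : IsProper ((Scheme.IdealSheafData.vanishingIdeal Z).subschemeι ≫ f)) (V : Y.Opens) :
    IsProper ((Scheme.IdealSheafData.vanishingIdeal
      (⟨(f ⁻¹ᵁ V).ι ⁻¹' Z, Z.isClosed.preimage (f ⁻¹ᵁ V).ι.continuous⟩ : Closeds (f ⁻¹ᵁ V).toScheme)).subschemeι ≫
      (f ∣_ V)) := by
  let U := f ⁻¹ᵁ V
  let Zι := (Scheme.IdealSheafData.vanishingIdeal Z).subschemeι
  haveI : IsClosedImmersion (Zι ∣_ U) := IsZariskiLocalAtTarget.restrict (inferInstance : IsClosedImmersion Zι) U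
  haveI : IsProper ((Zι ∣_ U) ≫ (f ∣_ V)) := by
    have : IsProper ((Zι ≫ f) ∣_ V) := IsZariskiLocalAtTarget.restrict hZ V
    rwa [morphismRestrict_comp] at this
  obtain ⟨_, hp⟩ := EtShriekLib.ipo_of_immersion (f ∣_ V) (Zι ∣_ U)
    (Z := U.ι ⁻¹' (Z : Set X)) (Z.isClosed.preimage U.ι.continuous) (by
    intro y hy
    obtain ⟨z, hz⟩ : U.ι y ∈ Set.range Zι := by
      rw [Scheme.IdealSheafData.range_subschemeι, Scheme.IdealSheafData.coe_support_vanishingIdeal]
      exact hy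
    refine ⟨⟨z, show Zι z ∈ U from hz ▸ y.2⟩, Subtype.ext (Eq.trans ?_ hz)⟩
    exact congr($(morphismRestrict_ι Zι U).base ⟨z, show Zι z ∈ U from hz ▸ y.2⟩))
  exact hp

/-- Relative ampleness descends along a finite surjective morphism if off a closed set proper over the base
the points are normal or have free direct image. -/
theorem isRelAmple_of_pullback {X X₁ Y : Scheme.{u}} [IsLocallyNoetherian Y] (f : X ⟶ Y) [LocallyOfFiniteType f]
    [QuasiCompact f] (g : X₁ ⟶ X) [IsFinite g] [Surjective g] {L : X.Modules} (hL : PicF.IsInvertible L)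
    (Z : Closeds X) (hZ : IsProper ((Scheme.IdealSheafData.vanishingIdeal Z).subschemeι ≫ f))
    (hreg : ∀ x : X, x ∉ (Z : Set X) → (IsDomain (X.presheaf.stalk x) ∧ IsIntegrallyClosed (X.presheaf.stalk x)) ∨
      FreeNear g x)
    (hA : RelAmple.IsRelAmple (g ≫ f) ((Scheme.Modules.pullback g).obj L)) : RelAmple.IsRelAmple f L := by
  haveI := AmpleLib.isSeparated_of_isRelAmple hA
  haveI : IsSeparated f := EtShriekLib.isSeparated_of_comp_surjective g f
  refine ⟨inferInstance, fun ⟨V, hV⟩ => ?_⟩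
  let U := f ⁻¹ᵁ V
  haveI : CompactSpace U.toScheme := isCompact_iff_compactSpace.mp (f.isCompact_preimage hV.isCompact)
  haveI : IsLocallyNoetherian X := LocallyOfFiniteType.isLocallyNoetherian f
  haveI : IsLocallyNoetherian U.toScheme := isLocallyNoetherian_of_isOpenImmersion U.ι
  haveI : IsNoetherian U.toScheme := ⟨⟩
  haveI : IsNoetherianRing Γ(Y, V) := IsLocallyNoetherian.component_noetherian ⟨V, hV⟩
  haveI : IsAffine V.toScheme := hV
  let p : U.toScheme ⟶ Spec (CommRingCat.of Γ(Y, V)) := (f ∣_ V) ≫ hV.isoSpec.hom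
  haveI : IsSeparated (f ∣_ V) := IsZariskiLocalAtTarget.restrict ‹_› V
  haveI : LocallyOfFiniteType (f ∣_ V) := IsZariskiLocalAtTarget.restrict ‹_› V
  haveI : IsFinite (g ∣_ U) := IsZariskiLocalAtTarget.restrict ‹_› U
  haveI : Surjective (g ∣_ U) := IsZariskiLocalAtTarget.restrict ‹_› U
  let Z' : Closeds U.toScheme := ⟨U.ι ⁻¹' Z, Z.isClosed.preimage U.ι.continuous⟩
  have hZ' : IsProper ((Scheme.IdealSheafData.vanishingIdeal Z').subschemeι ≫ p) := by
    haveI := isProper_restrict f Z hZ V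
    show IsProper (_ ≫ (f ∣_ V) ≫ hV.isoSpec.hom)
    rw [← Category.assoc]; infer_instance
  refine AmpleLib.isAmple_of_iso ((Scheme.Modules.restrictFunctorIsoPullback U.ι).app L).symm ?_
  refine isAmple_of_pullback' p (g ∣_ U) Z' hZ' (fun x hx => ?_) (PicCl.isInvertible_pullback U.ι hL) ?_
  · rcases hreg (U.ι x) hx with ⟨h1, h2⟩ | hfree
    · left
      let e := (asIso (U.ι.stalkMap x)).commRingCatIsoToRingEquiv
      exact ⟨e.toMulEquiv.isDomain_iff.mp h1, IsIntegrallyClosed.of_equiv e⟩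
    · right
      obtain ⟨A, d, hxA, hAU, hA, ⟨b⟩⟩ := hfree.shrink (U := U) x.2
      have hiA : IsAffineOpen (U.ι ⁻¹ᵁ A) := by
        rw [← U.ι.isAffineOpen_iff_of_isOpenImmersion, Scheme.Hom.image_preimage_eq_opensRange_inf,
          Scheme.Opens.opensRange_ι, inf_eq_right.2 hAU]
        exact hA
      obtain ⟨b'⟩ := exists_basis_baseChange (isPullback_morphismRestrict g U).flip hA hiA b
      exact ⟨U.ι ⁻¹ᵁ A, d, hxA, hiA, ⟨b'⟩⟩
  · refine AmpleLib.isAmple_of_iso ?_ (hA.2 ⟨V, hV⟩)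
    exact ((Scheme.Modules.restrictFunctorIsoPullback (g ⁻¹ᵁ U).ι).app _) ≪≫
      ((Scheme.Modules.pullbackComp (g ⁻¹ᵁ U).ι g).app L) ≪≫
      ((Scheme.Modules.pullbackCongr (morphismRestrict_ι g U).symm).app L) ≪≫
      ((Scheme.Modules.pullbackComp (g ∣_ U) U.ι).app L).symm

/-- Relative ampleness passes to finite morphisms. -/
theorem isRelAmple_pullback {X X₁ Y : Scheme.{u}} (f : X ⟶ Y) (g : X₁ ⟶ X) [IsFinite g] {L : X.Modules}
    (hA : RelAmple.IsRelAmple f L) : RelAmple.IsRelAmple (g ≫ f) ((Scheme.Modules.pullback g).obj L) := by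
  obtain ⟨_, hL, h⟩ := AmpleLib.isRelAmple_iff.mp hA
  refine AmpleLib.isRelAmple_iff.mpr ⟨inferInstance, PicCl.isInvertible_pullback g hL, fun V => ?_⟩
  rw [Scheme.Hom.comp_preimage]
  refine AmpleLib.ampleOn_pullback_of_qa hL g le_rfl (h V) fun W hW hWle => ?_
  rw [inf_eq_left.mpr (g.preimage_mono hWle)]
  exact AmpleLib.isQuasiAffine_of_isAffineOpen (hW.preimage g)

end Groth.Agent.Fibres16.NormAmp

end
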