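import Groth.Agent.Fibres16.NormAmp.Cyc
import Groth.Agent.AmpleLib.Rel
import Groth.Agent.S2324

/-!
# Coefficient families and sections of powers of invertible modules
-/

set_option autoImplicit false
set_option linter.style.haveILetI false

universe u

open CategoryTheory CategoryTheory.Limits AlgebraicGeometry TopologicalSpace Opposite

noncomputable section

namespace Groth.Agent.Fibres16.NormAmp

open Groth.Agent.QCoh Groth.Agent.Props.GenLocus Groth.Agent.Props.GenTensor Groth.Agent.Props.GenProd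
  Groth.Agent.Props.GenPull Groth.Agent.AmpleLib

variable {X Y : Scheme.{u}} {ι : Type}

namespace Cyc

/-- The data are the transition units of generators of `L`. -/
def IsFrameData (d : Cyc X ι) (L : X.Modules) : Prop :=
  ∃ e : ∀ i, Γ(L, d.W i), (∀ i, IsGen L (d.W i) (e i)) ∧
    ∀ i j, res L (inf_le_right : d.W i ⊓ d.W j ≤ d.W j) (e j) =
      d.u i j • res L (inf_le_left : d.W i ⊓ d.W j ≤ d.W i) (e i)

/-- Frame data exist. -/
theorem exists_frameData [CompactSpace X] {L : X.Modules} (hL : PicF.IsInvertible L) :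
    ∃ (r : ℕ) (d : Cyc X (Fin r)), d.IsFrameData L := by
  have key : ∀ x : X, ∃ (W : X.Opens) (e : Γ(L, W)), x ∈ W ∧ IsAffineOpen W ∧ IsGen L W e := by
    intro x
    obtain ⟨U, e, hxU, he⟩ := exists_isGen hL x
    obtain ⟨W, hW, hxW, hWU⟩ := exists_isAffineOpen_mem_and_subset (U := U) (x := x) hxU
    exact ⟨W, res L hWU e, hxW, hW, he.restrict hWU⟩
  choose W₀ f₀ hxW₀ hW₀ hf₀ using key
  obtain ⟨F, hF⟩ := isCompact_univ.elim_finite_subcover (fun x : X => (W₀ x : Set X))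
    (fun x => (W₀ x).2) fun x _ => Set.mem_iUnion.mpr ⟨x, hxW₀ x⟩
  let p : Fin F.card → X := fun i => (F.equivFin.symm i).1
  choose u hu hue using fun i j : Fin F.card => exists_unit_smul
    ((hf₀ (p i)).restrict (inf_le_left : W₀ (p i) ⊓ W₀ (p j) ≤ W₀ (p i)))
    ((hf₀ (p j)).restrict (inf_le_right : W₀ (p i) ⊓ W₀ (p j) ≤ W₀ (p j)))
  refine ⟨F.card, ⟨fun i => W₀ (p i), fun i => hW₀ _, fun x _ => ?_, u, hu⟩,
    fun i => f₀ (p i), fun i => hf₀ _, fun i j => hue i j⟩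
  obtain ⟨y, hy, hxy⟩ := Set.mem_iUnion₂.mp (hF (Set.mem_univ x))
  exact Opens.mem_iSup.mpr ⟨F.equivFin ⟨y, hy⟩, by simpa [p] using hxy⟩

variable {d : Cyc X ι} {L : X.Modules}

theorem IsFrameData.pull (h : d.IsFrameData L) (g : Y ⟶ X) [IsAffineHom g] :
    (d.pull g).IsFrameData ((Scheme.Modules.pullback g).obj L) := by
  obtain ⟨e, he, hu⟩ := h
  refine ⟨fun i => Props.GenPull.pb g (e i), fun i => Props.GenPull.isGen_pb g (he i), fun i j => ?_⟩
  have h1 := congrArg (LFFrame.unitSec g L (d.W i ⊓ d.W j)) (hu i j)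
  rw [LFFrame.unitSec_smul, LFFrame.unitSec_res, LFFrame.unitSec_res] at h1
  exact h1

/-- The coefficients of a section. -/
theorem IsFrameData.exists_fam (h : d.IsFrameData L) {k : ℕ} (s : Coh.structureModule X ⟶ CohB1.tensorPow L k) :
    ∃ c : d.Fam, d.IsSec k c ∧ d.locus c = CohB1.genLocus _ s := by
  obtain ⟨e, he, hu⟩ := h
  let c : d.Fam := fun i => co k (sec s ⊤) le_top (he i)
  have hsec : d.IsSec k c := fun i j => by
    simp only [c, co_res]
    exact Props.GenExt.co_of_eq_smul _ _ _ _ (hu i j)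
  refine ⟨c, hsec, TopologicalSpace.Opens.ext (Set.ext fun x => ?_)⟩
  obtain ⟨i, hi⟩ := d.mem_cov x
  have h1 : x ∈ X.basicOpen (c i) ↔ x ∈ CohB1.genLocus _ s := by
    rw [← genLocus_inf_eq (he i) s]
    exact ⟨fun h => h.1, fun h => ⟨h, hi⟩⟩
  rw [← hsec.locus_inf i] at h1
  exact (⟨fun h' => h1.1 ⟨h', hi⟩, fun h' => (h1.2 h').1⟩ : x ∈ d.locus c ↔ x ∈ CohB1.genLocus _ s)

/-- A compatible family is a section. -/
theorem IsFrameData.exists_hom (h : d.IsFrameData L) {k : ℕ} {c : d.Fam} (hc : d.IsSec k c) :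
    ∃ s : Coh.structureModule X ⟶ CohB1.tensorPow L k, CohB1.genLocus _ s = d.locus c := by
  obtain ⟨e, he, hu⟩ := h
  obtain ⟨s, hs⟩ := Props.GenExt.exists_hom_of_cover d.W d.cov e he k c fun i j v hv => by
    obtain rfl : v = d.u i j := ((he i).restrict (inf_le_left : d.W i ⊓ d.W j ≤ d.W i)).injective le_rfl
      (by rw [res_self]; exact hv.symm.trans (hu i j))
    exact hc i j
  refine ⟨s, TopologicalSpace.Opens.ext (Set.ext fun x => ?_)⟩
  obtain ⟨i, hi⟩ := d.mem_cov x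
  have h1 : x ∈ CohB1.genLocus _ s ⊓ d.W i ↔ x ∈ d.locus c ⊓ d.W i := by rw [(hs i).2, hc.locus_inf i]
  exact (⟨fun h' => (h1.1 ⟨h', hi⟩).1, fun h' => (h1.2 ⟨h', hi⟩).1⟩ :
    x ∈ CohB1.genLocus _ s ↔ x ∈ d.locus c)

/-- Ampleness, by families. -/
theorem IsFrameData.isAmple (h : d.IsFrameData L) (hL : PicF.IsInvertible L) [CompactSpace X]
    (H : ∀ x : X, ∃ (n : ℕ) (c : d.Fam), 0 < n ∧ d.IsSec n c ∧ x ∈ d.locus c ∧ IsAffineOpen (d.locus c)) :
    CohB1.IsAmple L := by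
  refine ⟨hL, inferInstance, fun x => ?_⟩
  obtain ⟨n, c, hn, hc, hx, haff⟩ := H x
  obtain ⟨s, hs⟩ := h.exists_hom hc
  obtain ⟨m, s', hs'⟩ := Props.GenExt.exists_succ hn s
  exact ⟨m, s', by rw [hs', hs]; exact hx, by rw [hs', hs]; exact haff⟩

theorem IsFrameData.exists_of_isAmple (h : d.IsFrameData L) (hA : CohB1.IsAmple L) (x : X) :
    ∃ (n : ℕ) (c : d.Fam), 0 < n ∧ d.IsSec n c ∧ x ∈ d.locus c ∧ IsAffineOpen (d.locus c) := by
  obtain ⟨n, s, hx, haff⟩ := hA.2.2 x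
  obtain ⟨c, hc, hloc⟩ := h.exists_fam s
  exact ⟨n + 1, c, n.succ_pos, hc, hloc ▸ hx, hloc ▸ haff⟩

theorem IsFrameData.exists_superset (h : d.IsFrameData L) (hA : CohB1.IsAmple L) {E : Set X} (hE : E.Finite)
    {U : X.Opens} (hEU : E ⊆ U) :
    ∃ (n : ℕ) (c : d.Fam), 0 < n ∧ d.IsSec n c ∧ E ⊆ d.locus c ∧ d.locus c ≤ U ∧ IsAffineOpen (d.locus c) := by
  haveI := hA.2.1
  haveI := AmpleLib.isSeparated_of_isAmple hA
  obtain ⟨n, s, hEs, hsU, haff⟩ := Groth.Agent.S2324.result X L hA E hE U hEU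
  obtain ⟨c, hc, hloc⟩ := h.exists_fam s
  exact ⟨n + 1, c, n.succ_pos, hc, hloc ▸ hEs, hloc ▸ hsU, hloc ▸ haff⟩

/-- A common degree for sections with affine loci covering the scheme. -/
theorem IsFrameData.exists_common (h : d.IsFrameData L) (hA : CohB1.IsAmple L) :
    ∃ (r n : ℕ) (σ : Fin r → d.Fam), 0 < n ∧ (∀ k, d.IsSec n (σ k)) ∧ (∀ k, IsAffineOpen (d.locus (σ k))) ∧
      ∀ x : X, ∃ k, x ∈ d.locus (σ k) := by
  classical
  haveI := hA.2.1
  choose n c hn hc hx haff using h.exists_of_isAmple hA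
  obtain ⟨F, hF⟩ := isCompact_univ.elim_finite_subcover (fun x : X => (d.locus (c x) : Set X))
    (fun x => (d.locus (c x)).2) fun x _ => Set.mem_iUnion.mpr ⟨x, hx x⟩
  let p : Fin F.card → X := fun i => (F.equivFin.symm i).1
  let N := ∏ x ∈ F, n x
  have hdvd : ∀ i, n (p i) ∣ N := fun i => Finset.dvd_prod_of_mem _ (F.equivFin.symm i).2
  have hN : 0 < N := Finset.prod_pos fun x _ => hn x
  have hpos : ∀ i, 0 < N / n (p i) := fun i => Nat.div_pos (Nat.le_of_dvd hN (hdvd i)) (hn _)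
  have hloc : ∀ i, d.locus (c (p i) ^ (N / n (p i))) = d.locus (c (p i)) := fun i =>
    iSup_congr fun j => X.basicOpen_pow (c (p i) j) (hpos i)
  refine ⟨F.card, N, fun i => c (p i) ^ (N / n (p i)), hN,
    fun i => ((hc (p i)).pow _).cast (Nat.mul_div_cancel' (hdvd i)), fun i => (hloc i).symm ▸ haff _, fun x => ?_⟩
  obtain ⟨y, hy, hxy⟩ := Set.mem_iUnion₂.mp (hF (Set.mem_univ x))
  refine ⟨F.equivFin ⟨y, hy⟩, ?_⟩
  rw [hloc]
  simpa [p] using hxy

end Cyc

end Groth.Agent.Fibres16.NormAmp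

end
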