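import Groth.Agent.AmpleLib.GenNorm.Alg
import Mathlib.RingTheory.Filtration
import Mathlib.RingTheory.IntegralClosure.IsIntegralClosure.Basic
import Mathlib.RingTheory.Finiteness.Ideal
import Mathlib.RingTheory.Norm.Basic
import Mathlib.LinearAlgebra.Charpoly.Basic
import Mathlib.FieldTheory.IsAlgClosed.Basic

/-!
# Congruences for norms of finite algebras
-/

set_option autoImplicit false
set_option linter.style.haveILetI false

universe u

open TensorProduct

namespace Groth.Agent.Fibres16.NormAmp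

open Groth.Agent.AmpleLib.GenNorm

variable {A B : Type u} [CommRing A] [CommRing B] [Algebra A B] [Module.Finite A B]

/-- A product of elements congruent to `c` is congruent to the power. -/
theorem prod_congr {R : Type u} [CommRing R] (J : Ideal R) (c : R) (s : Multiset R) (h : ∀ l ∈ s, l - c ∈ J) :
    s.prod - c ^ Multiset.card s ∈ J := by
  induction s using Multiset.induction with
  | empty => simp
  | cons a s ih =>
    have h1 := h a (Multiset.mem_cons_self a s)
    have h2 := ih fun l hl => h l (Multiset.mem_cons_of_mem hl)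
    rw [Multiset.prod_cons, Multiset.card_cons, pow_succ',
      show a * s.prod - c * c ^ Multiset.card s = (a - c) * s.prod + c * (s.prod - c ^ Multiset.card s) by ring]
    exact J.add_mem (J.mul_mem_right _ h1) (J.mul_mem_left _ h2)

/-- Norms of congruent elements are congruent, with values in a finite algebra. -/
theorem exists_finite_norm (K F : Type u) [Field K] [CommRing F] [Algebra K F] [Module.Finite K F]
    (α : A →+* K) (τ : B →+* F) (hτ : ∀ a, τ (algebraMap A B a) = algebraMap K F (α a)) :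
    ∃ (R : Type u) (_ : CommRing R) (_ : Algebra A R) (_ : Module.Finite A R)
      (j : R →+* AlgebraicClosure K), Function.Injective j ∧
      (∀ a, j (algebraMap A R a) = algebraMap K (AlgebraicClosure K) (α a)) ∧
      ∀ (M : Ideal A) (c : A) (f : B), f - algebraMap A B c ∈ M.map (algebraMap A B) →
        ∃ x : R, j x = algebraMap K (AlgebraicClosure K) (Algebra.norm K (τ f)) ∧
          x - algebraMap A R c ^ Module.finrank K F ∈ M.map (algebraMap A R) := by
  classical
  let Ω := AlgebraicClosure K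
  letI : Algebra A Ω := ((algebraMap K Ω).comp α).toAlgebra
  haveI : Fintype (F →ₐ[K] Ω) := minpoly.AlgHom.fintype K F Ω
  let ψ : (F →ₐ[K] Ω) → (B →ₐ[A] Ω) := fun χ =>
    { (χ.toRingHom.comp τ) with
      commutes' := fun a => by
        show χ (τ (algebraMap A B a)) = _
        rw [hτ, χ.commutes]
        rfl }
  obtain ⟨g, hg⟩ := (Module.finite_def.1 ‹Module.Finite A B›)
  let S : Set Ω := ⋃ χ, ψ χ '' (g : Set B)
  have hSfin : S.Finite := Set.finite_iUnion fun χ => g.finite_toSet.image _
  let R := Algebra.adjoin A S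
  have hRfin : Module.Finite A R := by
    refine Module.Finite.iff_fg.2 (fg_adjoin_of_finite hSfin fun x hx => ?_)
    obtain ⟨χ, b, -, rfl⟩ := Set.mem_iUnion.1 hx |>.imp fun χ h => h
    exact (Algebra.IsIntegral.isIntegral b).map (ψ χ)
  have hmem : ∀ χ b, ψ χ b ∈ R := fun χ b => by
    have hb : b ∈ Submodule.span A (g : Set B) := hg ▸ Submodule.mem_top
    induction hb using Submodule.span_induction with
    | mem x hx => exact Algebra.subset_adjoin (Set.mem_iUnion.2 ⟨χ, x, hx, rfl⟩)
    | zero => rw [map_zero]; exact zero_mem _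
    | add x y _ _ hx hy => rw [map_add]; exact add_mem hx hy
    | smul r x _ hx => rw [map_smul]; exact Subalgebra.smul_mem _ hx r
  refine ⟨R, inferInstance, inferInstance, hRfin, R.val.toRingHom, Subtype.val_injective,
    fun _ => rfl, fun M c f hf => ?_⟩
  obtain ⟨s, hcard, hprod, hroot⟩ := exists_prod_eq_norm (K := K) (Ω := Ω) (τ f)
  choose χ hχ using hroot
  let l : {l // l ∈ s} → R := fun l => ⟨ψ (χ l.1 l.2) f, hmem _ _⟩
  refine ⟨(s.attach.map l).prod, ?_, ?_⟩
  · rw [map_multiset_prod, Multiset.map_map, hprod]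
    congr 1
    conv_rhs => rw [← Multiset.attach_map_val s]
    exact Multiset.map_congr rfl fun l _ => hχ l.1 l.2
  · have h1 := prod_congr (M.map (algebraMap A R)) (algebraMap A R c) (s.attach.map l) fun x hx => by
      obtain ⟨l', -, rfl⟩ := Multiset.mem_map.1 hx
      let ψ' : B →ₐ[A] R := (ψ (χ l'.1 l'.2)).codRestrict R (hmem _)
      have h2 := Ideal.mem_map_of_mem ψ'.toRingHom hf
      rw [Ideal.map_map, show ψ'.toRingHom.comp (algebraMap A B) = algebraMap A R from ψ'.comp_algebraMap,
        map_sub] at h2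
      rwa [show ψ'.toRingHom (algebraMap A B c) = algebraMap A R c from ψ'.commutes c] at h2
    rwa [Multiset.card_map, Multiset.card_attach, hcard] at h1

/-- Congruence of norms: if the normalised norm of `f ≡ c` is regular away from `V(I)` it is regular and
congruent to `c^D`. -/
theorem exists_congr [IsNoetherianRing A] {H : Type*} [Finite H] (K F : H → Type u) [∀ h, Field (K h)]
    [∀ h, CommRing (F h)] [∀ h, Algebra (K h) (F h)] [∀ h, Module.Finite (K h) (F h)]
    (α : ∀ h, A →+* K h) (τ : ∀ h, B →+* F h) (hτ : ∀ h a, τ h (algebraMap A B a) = algebraMap (K h) (F h) (α h a))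
    (e : H → ℕ) (D : ℕ) (hD : ∀ h, Module.finrank (K h) (F h) * e h = D) (I : Ideal A) :
    ∃ M, 0 < M ∧ ∀ (c : A) (f : B), f - algebraMap A B c ∈ (I ^ M).map (algebraMap A B) →
      (∀ a ∈ I, ∃ (n : ℕ) (a' : A), ∀ h, α h a' = α h a ^ n * Algebra.norm (K h) (τ h f) ^ e h) →
      ∃ N : A, (∀ h, α h N = Algebra.norm (K h) (τ h f) ^ e h) ∧ N - c ^ D ∈ I := by
  classical
  haveI := Fintype.ofFinite H
  choose R iR aR fR j hj hjα hjx using fun h => exists_finite_norm (K h) (F h) (α h) (τ h) (hτ h)
  let Rt := ∀ h, R h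
  haveI : Module.Finite A Rt := Module.Finite.pi
  let img : Submodule A Rt := LinearMap.range (Algebra.linearMap A Rt)
  let C₀ : Submodule A Rt :=
    { carrier := {x | ∀ a ∈ I, ∃ n, a ^ n • x ∈ img}
      add_mem' := fun {x y} hx hy a ha => by
        obtain ⟨n, hn⟩ := hx a ha
        obtain ⟨m, hm⟩ := hy a ha
        refine ⟨n + m, ?_⟩
        rw [smul_add, pow_add]
        exact img.add_mem (by rw [mul_comm, mul_smul]; exact img.smul_mem _ hn)
          (by rw [mul_smul]; exact img.smul_mem _ hm)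
      zero_mem' := fun a _ => ⟨0, by simp⟩
      smul_mem' := fun r x hx a ha => by
        obtain ⟨n, hn⟩ := hx a ha
        exact ⟨n, smul_comm r (a ^ n) x ▸ img.smul_mem r hn⟩ }
  have hCfg : C₀.FG := IsNoetherian.noetherian _
  obtain ⟨g, hg⟩ := hCfg
  obtain ⟨N₁, hN₁⟩ : ∃ N, I ^ N ≤ img.colon (C₀ : Set Rt) := by
    refine Ideal.exists_pow_le_of_le_radical_of_fg (fun a ha => ?_) (IsNoetherian.noetherian I)
    have hg' : ∀ y ∈ g, ∃ n, a ^ n • y ∈ img := fun y hy => (hg ▸ Submodule.subset_span hy : y ∈ C₀) a ha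
    choose n hn using hg'
    refine ⟨g.attach.sup fun y => n y.1 y.2, Submodule.mem_colon.2 fun x hx => ?_⟩
    rw [SetLike.mem_coe, ← hg] at hx
    induction hx using Submodule.span_induction with
    | mem y hy =>
      obtain ⟨k, hk⟩ := Nat.exists_eq_add_of_le (Finset.le_sup (f := fun y : g => n y.1 y.2)
        (Finset.mem_attach _ ⟨y, hy⟩))
      rw [hk, pow_add, mul_comm, mul_smul]
      exact img.smul_mem _ (hn y hy)
    | zero => rw [smul_zero]; exact img.zero_mem
    | add x y _ _ hx hy => rw [smul_add]; exact img.add_mem hx hy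
    | smul r x _ hx => rw [smul_comm]; exact img.smul_mem r hx
  obtain ⟨k, hk⟩ := Ideal.exists_pow_inf_eq_pow_smul I C₀
  refine ⟨k + N₁ + 1, by omega, fun c f hf hloc => ?_⟩
  choose x hx hxc using fun h => hjx h (I ^ (k + N₁ + 1)) c f hf
  let z : Rt := fun h => x h ^ e h - algebraMap A (R h) c ^ D
  have hz1 : z ∈ (I ^ (k + N₁ + 1)) • (⊤ : Submodule A Rt) := by
    rw [← Finset.univ_sum_single z]
    refine Submodule.sum_mem _ fun h _ => ?_
    have h1 : z h ∈ (I ^ (k + N₁ + 1)) • (⊤ : Submodule A (R h)) := by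
      rw [Ideal.smul_top_eq_map, Submodule.restrictScalars_mem]
      simp only [z]
      rw [← hD h, pow_mul]
      obtain ⟨q, hq⟩ := sub_dvd_pow_sub_pow (x h) (algebraMap A (R h) c ^ Module.finrank (K h) (F h)) (e h)
      rw [hq]
      exact Ideal.mul_mem_right _ _ (hxc h)
    have h2 := Submodule.mem_map_of_mem (f := LinearMap.single A R h) h1
    rw [Submodule.map_smul''] at h2
    exact Submodule.smul_mono le_rfl le_top h2
  have hz2 : z ∈ C₀ := fun a ha => by
    obtain ⟨n, a', h'⟩ := hloc a ha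
    refine ⟨n, a' - a ^ n * c ^ D, funext fun h => hj h ?_⟩
    simp only [z, Algebra.linearMap_apply, Algebra.smul_def, map_mul, map_sub, map_pow]
    show j h (algebraMap A (R h) a' - algebraMap A (R h) a ^ n * algebraMap A (R h) c ^ D) =
      j h (algebraMap A (R h) a ^ n * (x h ^ e h - algebraMap A (R h) c ^ D))
    simp only [map_mul, map_sub, map_pow, hjα, hx, h' h, mul_sub]
  have hz : z ∈ (I ^ (k + N₁ + 1) • (⊤ : Submodule A Rt)) ⊓ C₀ := ⟨hz1, hz2⟩
  rw [hk _ (by omega), show k + N₁ + 1 - k = 1 + N₁ by omega, pow_add, pow_one, Submodule.mul_smul] at hz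
  have hz' : z ∈ I • img := by
    refine Submodule.smul_mono le_rfl ?_ hz
    refine Submodule.smul_le.2 fun r hr y hy => ?_
    exact Submodule.mem_colon.1 (hN₁ hr) y hy.2
  obtain ⟨i, hi, hiz⟩ : ∃ i ∈ I, algebraMap A Rt i = z := by
    rw [show img = (⊤ : Submodule A A).map (Algebra.linearMap A Rt) from LinearMap.range_eq_map _,
      ← Submodule.map_smul'', smul_eq_mul, Ideal.mul_top] at hz'
    exact hz'
  refine ⟨c ^ D + i, fun h => (algebraMap (K h) (AlgebraicClosure (K h))).injective ?_, by simpa using hi⟩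
  rw [← hjα h, map_pow, ← hx h, map_add, show algebraMap A (R h) i = z h from congrFun hiz h]
  simp only [z, map_add, map_sub, map_pow]
  ring

/-- A norm vanishes where the element does, on the closure of the fibre. -/
theorem norm_not_unit {K F : Type u} [Field K] [CommRing F] [Algebra K F] [Module.Finite K F]
    (α : A →+* K) (τ : B →+* F) (hτ : ∀ a, τ (algebraMap A B a) = algebraMap K F (α a))
    (m : Ideal F) [m.IsPrime] (Q : Ideal B) [Q.IsPrime] (hmQ : m.comap τ ≤ Q) {f : B} (hf : f ∈ Q)
    {e : ℕ} (he : 0 < e) {N : A} (hN : α N = Algebra.norm K (τ f) ^ e) : ¬ IsUnit N := by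
  intro hu
  let Ω := AlgebraicClosure K
  haveI : IsDomain (F ⧸ m) := inferInstance
  haveI : Algebra.IsIntegral K (F ⧸ m) := Algebra.IsIntegral.of_finite K _
  letI : Field (F ⧸ m) := (isField_of_isIntegral_of_isField' (Field.toIsField K)).toField
  let χ : F →ₐ[K] Ω := (IsAlgClosed.lift (M := Ω) : (F ⧸ m) →ₐ[K] Ω).comp (Ideal.Quotient.mkₐ K m)
  let ψ : B →+* Ω := χ.toRingHom.comp τ
  have hker : ∀ b, ψ b = 0 → b ∈ Q := fun b hb => hmQ ((Ideal.Quotient.eq_zero_iff_mem (I := m) (a := τ b)).1
    ((map_eq_zero_iff _ (IsAlgClosed.lift (M := Ω) : (F ⧸ m) →ₐ[K] Ω).injective).1 hb))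
  let I : Ideal ψ.range := Q.map ψ.rangeRestrict
  have hI : I ≠ ⊤ := fun hI => by
    have h1 := congrArg (Ideal.comap ψ.rangeRestrict) hI
    rw [Ideal.comap_map_of_surjective _ ψ.rangeRestrict_surjective, Ideal.comap_top] at h1
    exact ‹Q.IsPrime›.ne_top (top_le_iff.mp (h1.ge.trans (sup_le le_rfl fun a ha =>
      hker a (congrArg Subtype.val (Ideal.mem_comap.mp ha)))))
  obtain ⟨V, hV, hVI⟩ := Ideal.image_subset_nonunits_valuationSubring I hI
  have hψf : ψ f ∈ V.nonunits := hVI ⟨_, Ideal.mem_map_of_mem ψ.rangeRestrict hf, rfl⟩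
  have hA : ∀ a, algebraMap K Ω (α a) ∈ V := fun a => hV ⟨algebraMap A B a, by
    show χ (τ (algebraMap A B a)) = _
    rw [hτ, χ.commutes]⟩
  have hall : ∀ χ' : F →ₐ[K] Ω, χ' (τ f) ∈ V := fun χ' => by
    obtain ⟨p, hpm, hp⟩ := Algebra.IsIntegral.isIntegral (R := A) f
    let φ : A →+* V := ((algebraMap K Ω).comp α).codRestrict V.toSubring hA
    have hi : IsIntegral V (χ' (τ f)) := by
      refine ⟨p.map φ, hpm.map _, ?_⟩
      rw [Polynomial.eval₂_map]
      have h1 := congrArg (χ'.toRingHom.comp τ) hp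
      rw [Polynomial.hom_eval₂, map_zero] at h1
      refine Eq.trans ?_ h1
      congr 1
      refine RingHom.ext fun a => ?_
      show algebraMap K Ω (α a) = χ' (τ (algebraMap A B a))
      rw [hτ, χ'.commutes]
    obtain ⟨v, hv⟩ := IsIntegrallyClosed.isIntegral_iff.mp hi
    exact hv ▸ v.2
  let P := ((Algebra.lmul K F (τ f)).baseChange Ω).charpoly
  have hroot : χ (τ f) ∈ P.roots := by
    rw [Polynomial.mem_roots (LinearMap.charpoly_monic _).ne_zero, Polynomial.IsRoot.def]
    simp only [P, LinearMap.charpoly_baseChange, Polynomial.eval_map]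
    have h0 : Polynomial.aeval (τ f) (Algebra.lmul K F (τ f)).charpoly = 0 := by
      apply Algebra.lmul_injective (R := K) (A := F)
      rw [← Polynomial.aeval_algHom_apply, LinearMap.aeval_self_charpoly, map_zero]
    rw [← Polynomial.aeval_def, Polynomial.aeval_algHom_apply, h0, map_zero]
  have hprod : algebraMap K Ω (Algebra.norm K (τ f)) = P.roots.prod := by
    rw [Algebra.norm_apply, ← LinearMap.det_baseChange,
      Module.End.det_eq_prod_roots_charpoly_of_splits (IsAlgClosed.splits _)]
  have hnon : V.valuation (algebraMap K Ω (Algebra.norm K (τ f))) < 1 := by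
    obtain ⟨t, ht⟩ := Multiset.exists_cons_of_mem hroot
    rw [hprod, ht, Multiset.prod_cons, map_mul]
    refine (mul_le_of_le_one_right' ?_).trans_lt ((ValuationSubring.mem_nonunits_iff _).1 hψf)
    refine (V.valuation_le_one_iff _).2 (V.toSubring.multiset_prod_mem t fun l hl => ?_)
    obtain ⟨χ', hχ'⟩ := exists_algHom_eq (τ f) (Polynomial.isRoot_of_mem_roots (ht ▸ Multiset.mem_cons_of_mem hl : l ∈ P.roots))
    exact hχ' ▸ hall χ'
  obtain ⟨M, hM⟩ := hu.exists_right_inv
  have h1 : V.valuation (algebraMap K Ω (α N)) * V.valuation (algebraMap K Ω (α M)) = 1 := by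
    rw [← map_mul, ← map_mul, ← map_mul, hM, map_one, map_one, map_one]
  refine absurd h1 (ne_of_lt ((mul_le_of_le_one_right' ((V.valuation_le_one_iff _).2 (hA M))).trans_lt ?_))
  rw [hN, map_pow, map_pow]
  exact pow_lt_one₀ zero_le hnon he.ne'

end Groth.Agent.Fibres16.NormAmp
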