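import Groth.Agent.QCoh.Basic
import Mathlib.AlgebraicGeometry.AffineScheme
import Mathlib.AlgebraicGeometry.Noetherian
import Mathlib.AlgebraicGeometry.Morphisms.Affine
import Mathlib.AlgebraicGeometry.Morphisms.QuasiSeparated

/-!
# Sections of powers of an invertible sheaf, by coefficients

A `Cyc` is a finite affine cover with transition units; sections of the `k`-th power are families of
functions on the cover compatible with the `k`-th powers of the units. All degrees live in one ring.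
-/

set_option autoImplicit false
set_option linter.style.haveILetI false

universe u

open CategoryTheory AlgebraicGeometry TopologicalSpace Opposite

noncomputable section

namespace Groth.Agent.Fibres16.NormAmp

open Groth.Agent.QCoh

/-- An affine cover with transition units. -/
structure Cyc (X : Scheme.{u}) (ι : Type) where
  W : ι → X.Opens
  aff : ∀ i, IsAffineOpen (W i)
  cov : ⊤ ≤ iSup W
  u : ∀ i j, Γ(X, W i ⊓ W j)
  hu : ∀ i j, IsUnit (u i j)

variable {X Y : Scheme.{u}} {ι : Type} (d : Cyc X ι)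

namespace Cyc

/-- Families of functions on the cover. -/
abbrev Fam : Type u := ∀ i : ι, Γ(X, d.W i)

/-- Sections of the `k`-th power. -/
def IsSec (k : ℕ) (c : d.Fam) : Prop :=
  ∀ i j, rres (inf_le_left : d.W i ⊓ d.W j ≤ d.W i) (c i) =
    d.u i j ^ k * rres (inf_le_right : d.W i ⊓ d.W j ≤ d.W j) (c j)

variable {d} {k l : ℕ} {c c' : d.Fam}

theorem IsSec.zero (k : ℕ) : d.IsSec k 0 := fun i j => by simp

theorem IsSec.one : d.IsSec 0 1 := fun i j => by simp

theorem IsSec.add (h : d.IsSec k c) (h' : d.IsSec k c') : d.IsSec k (c + c') := fun i j => by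
  simp [h i j, h' i j, mul_add]

theorem IsSec.neg (h : d.IsSec k c) : d.IsSec k (-c) := fun i j => by
  simp [h i j]

theorem IsSec.sub (h : d.IsSec k c) (h' : d.IsSec k c') : d.IsSec k (c - c') :=
  sub_eq_add_neg c c' ▸ h.add h'.neg

theorem IsSec.mul (h : d.IsSec k c) (h' : d.IsSec l c') : d.IsSec (k + l) (c * c') := fun i j => by
  simp only [Pi.mul_apply, map_mul, h i j, h' i j, pow_add]
  ring

theorem IsSec.pow (h : d.IsSec k c) : ∀ a : ℕ, d.IsSec (k * a) (c ^ a)
  | 0 => by simpa using IsSec.one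
  | a + 1 => by
    rw [pow_succ, Nat.mul_succ]
    exact (IsSec.pow h a).mul h

/-- A global function, as a family. -/
def cst (d : Cyc X ι) : Γ(X, ⊤) →+* d.Fam := RingHom.pi fun i => (rres (le_top : d.W i ≤ ⊤)).hom

theorem isSec_cst (a : Γ(X, ⊤)) : d.IsSec 0 (d.cst a) := fun i j => by
  rw [pow_zero, one_mul]
  exact (rres_rres (le_top : d.W i ≤ ⊤) inf_le_left a).trans (rres_rres (le_top : d.W j ≤ ⊤) inf_le_right a).symm

theorem IsSec.cast (h : d.IsSec k c) (e : k = l) : d.IsSec l c := e ▸ h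

theorem IsSec.sum {α : Type*} (s : Finset α) (f : α → d.Fam) (h : ∀ a ∈ s, d.IsSec k (f a)) :
    d.IsSec k (∑ a ∈ s, f a) :=
  Finset.sum_induction _ (d.IsSec k) (fun _ _ => IsSec.add) (IsSec.zero k) h

/-- Pullback of the data along an affine morphism. -/
@[reducible] def pull (d : Cyc X ι) (g : Y ⟶ X) [IsAffineHom g] : Cyc Y ι where
  W i := g ⁻¹ᵁ d.W i
  aff i := (d.aff i).preimage g
  cov := by rw [← Scheme.Hom.preimage_iSup, top_le_iff.1 d.cov]; rfl
  u i j := g.app (d.W i ⊓ d.W j) (d.u i j)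
  hu i j := (d.hu i j).map _

/-- Pullback of families. -/
def pb (d : Cyc X ι) (g : Y ⟶ X) [IsAffineHom g] : d.Fam →+* (d.pull g).Fam :=
  RingHom.pi fun i => (g.app (d.W i)).hom.comp (Pi.evalRingHom _ i)

theorem pb_apply (g : Y ⟶ X) [IsAffineHom g] (c : d.Fam) (i : ι) : d.pb g c i = g.app (d.W i) (c i) := rfl

theorem app_rres (g : Y ⟶ X) {U V : X.Opens} (h : V ≤ U) (a : Γ(X, U)) :
    g.app V (rres h a) = rres (g.preimage_mono h) (g.app U a) :=
  ConcreteCategory.congr_hom (g.naturality (homOfLE h).op) a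

theorem IsSec.pb (h : d.IsSec k c) (g : Y ⟶ X) [IsAffineHom g] : (d.pull g).IsSec k (d.pb g c) := fun i j => by
  have h1 := congrArg (g.app (d.W i ⊓ d.W j)) (h i j)
  rw [map_mul, map_pow, app_rres, app_rres] at h1
  exact h1

theorem pb_cst (g : Y ⟶ X) [IsAffineHom g] (a : Γ(X, ⊤)) : d.pb g (d.cst a) = (d.pull g).cst (g.appTop a) :=
  funext fun i => app_rres g le_top a

/-- The locus where a family generates. -/
def locus (d : Cyc X ι) (c : d.Fam) : X.Opens := ⨆ i, X.basicOpen (c i)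

theorem mem_cov (d : Cyc X ι) (x : X) : ∃ i, x ∈ d.W i := Opens.mem_iSup.1 (d.cov trivial)

theorem basicOpen_le_locus (c : d.Fam) (i : ι) : X.basicOpen (c i) ≤ d.locus c :=
  le_iSup (fun i => X.basicOpen (c i)) i

theorem IsSec.locus_inf (h : d.IsSec k c) (i : ι) : d.locus c ⊓ d.W i = X.basicOpen (c i) := by
  refine le_antisymm ?_ (le_inf (basicOpen_le_locus c i) (X.basicOpen_le _))
  rintro x ⟨hx, hxi⟩
  obtain ⟨j, hj⟩ := Opens.mem_iSup.1 hx
  have hxij : x ∈ d.W i ⊓ d.W j := ⟨hxi, X.basicOpen_le _ hj⟩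
  have h1 : X.basicOpen (rres (inf_le_left : d.W i ⊓ d.W j ≤ d.W i) (c i)) =
      (d.W i ⊓ d.W j) ⊓ X.basicOpen (rres (inf_le_right : d.W i ⊓ d.W j ≤ d.W j) (c j)) := by
    rw [h i j, Scheme.basicOpen_mul, X.basicOpen_of_isUnit ((d.hu i j).pow k)]
  rw [Scheme.basicOpen_res, Scheme.basicOpen_res] at h1
  exact (h1.ge ⟨hxij, hxij, hj⟩).2

theorem IsSec.isUnit_res (h : d.IsSec k c) {i : ι} {V : X.Opens} (hV : V ≤ d.locus c) (hVi : V ≤ d.W i) :
    IsUnit (rres hVi (c i)) := by
  have hle : V ≤ X.basicOpen (c i) := h.locus_inf i ▸ le_inf hV hVi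
  rw [← rres_rres (X.basicOpen_le (c i)) hle]
  exact (RingedSpace.isUnit_res_basicOpen X.toRingedSpace (c i)).map (rres hle).hom

theorem locus_pb (g : Y ⟶ X) [IsAffineHom g] (c : d.Fam) :
    (d.pull g).locus (d.pb g c) = g ⁻¹ᵁ d.locus c := by
  rw [Cyc.locus, Cyc.locus, Scheme.Hom.preimage_iSup]
  exact iSup_congr fun i => (Scheme.preimage_basicOpen g (c i)).symm

variable [Fintype ι]

/-- A family killed on the locus of a section is killed by its powers. -/
theorem exists_pow_mul_eq_zero (s z : d.Fam) (h : ∀ i, rres (X.basicOpen_le (s i)) (z i) = 0) :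
    ∃ N, ∀ M, N ≤ M → s ^ M * z = 0 := by
  have key : ∀ i, ∃ n, s i ^ n * z i = 0 := fun i => by
    obtain ⟨n, hn⟩ := exists_pow_mul_eq_zero_of_res_basicOpen_eq_zero_of_isCompact X (d.aff i).isCompact (z i)
      (s i) (h i)
    exact ⟨n, hn⟩
  choose n hn using key
  refine ⟨Finset.univ.sup n, fun M hM => funext fun i => ?_⟩
  obtain ⟨a, rfl⟩ := Nat.exists_eq_add_of_le ((Finset.le_sup (f := n) (Finset.mem_univ i)).trans hM)
  simp only [Pi.mul_apply, Pi.pow_apply, Pi.zero_apply, pow_add]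
  rw [mul_comm (s i ^ n i), mul_assoc, hn, mul_zero]

/-- Sections over the locus of a section extend, up to high powers. -/
theorem exists_extend [QuasiSeparatedSpace X] {s : d.Fam} (hs : d.IsSec k s)
    (z : ∀ i, Γ(X, X.basicOpen (s i)))
    (hz : ∀ (i j : ι) (V : X.Opens) (hi : V ≤ X.basicOpen (s i)) (hj : V ≤ X.basicOpen (s j)),
      rres hi (z i) = rres (le_inf (hi.trans (X.basicOpen_le _)) (hj.trans (X.basicOpen_le _))) (d.u i j) ^ l *
        rres hj (z j)) :
    ∃ N₀, ∀ N, N₀ ≤ N → ∃ c : d.Fam, d.IsSec (l + N * k) c ∧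
      ∀ i, rres (X.basicOpen_le (s i)) (c i) = rres (X.basicOpen_le (s i)) (s i) ^ N * z i := by
  have key : ∀ i, ∃ (n : ℕ) (a : Γ(X, d.W i)),
      rres (X.basicOpen_le (s i)) a = rres (X.basicOpen_le (s i)) (s i) ^ n * z i := fun i => by
    have := (d.aff i).isLocalization_basicOpen (s i)
    obtain ⟨⟨a, ⟨_, n, rfl⟩⟩, ha⟩ := IsLocalization.surj (Submonoid.powers (s i)) (z i)
    refine ⟨n, a, ?_⟩
    rw [← map_pow, mul_comm]
    exact ha.symm
  choose n a ha using key
  let N₁ := Finset.univ.sup n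
  let b : d.Fam := fun i => s i ^ (N₁ - n i) * a i
  have hb : ∀ i, rres (X.basicOpen_le (s i)) (b i) = rres (X.basicOpen_le (s i)) (s i) ^ N₁ * z i := fun i => by
    simp only [b, map_mul, map_pow]
    rw [ha i, ← mul_assoc, ← pow_add, Nat.sub_add_cancel (Finset.le_sup (f := n) (Finset.mem_univ i))]
  have hpair : ∀ p : ι × ι, ∃ m, rres (inf_le_left : d.W p.1 ⊓ d.W p.2 ≤ _) (s p.1) ^ m *
      (rres (inf_le_left : d.W p.1 ⊓ d.W p.2 ≤ _) (b p.1) -
        d.u p.1 p.2 ^ (l + N₁ * k) * rres (inf_le_right : d.W p.1 ⊓ d.W p.2 ≤ _) (b p.2)) = 0 := by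
    rintro ⟨i, j⟩
    have hc : IsCompact ((d.W i ⊓ d.W j : X.Opens) : Set X) :=
      QuasiSeparatedSpace.inter_isCompact _ _ (d.W i).2 (d.aff i).isCompact (d.W j).2 (d.aff j).isCompact
    obtain ⟨m, hm⟩ := exists_pow_mul_eq_zero_of_res_basicOpen_eq_zero_of_isCompact X hc
      (rres (inf_le_left : d.W i ⊓ d.W j ≤ _) (b i) -
        d.u i j ^ (l + N₁ * k) * rres (inf_le_right : d.W i ⊓ d.W j ≤ _) (b j))
      (rres (inf_le_left : d.W i ⊓ d.W j ≤ _) (s i)) (by
        show rres (X.basicOpen_le (rres (inf_le_left : d.W i ⊓ d.W j ≤ _) (s i))) _ = 0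
        set V := X.basicOpen (rres (inf_le_left : d.W i ⊓ d.W j ≤ _) (s i))
        have hV : V ≤ d.W i ⊓ d.W j := X.basicOpen_le _
        have hVi : V ≤ X.basicOpen (s i) := by
          intro x hx
          simp only [V, Scheme.basicOpen_res] at hx
          exact hx.2
        have hVj : V ≤ X.basicOpen (s j) := fun x hx =>
          (hs.locus_inf j).le ⟨basicOpen_le_locus s i (hVi hx), (hV hx).2⟩
        have e1 := congrArg (rres hVi) (hb i)
        have e2 := congrArg (rres hVj) (hb j)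
        have e3 := congrArg (rres hV) (hs i j)
        simp only [map_mul, map_pow, rres_rres] at e1 e2 e3
        simp only [map_sub, map_mul, map_pow, rres_rres]
        rw [e1, e2, hz i j V hVi hVj, e3]
        ring)
    exact ⟨m, hm⟩
  choose m hm using hpair
  let M := Finset.univ.sup m
  refine ⟨N₁ + M, fun N hN => ?_⟩
  obtain ⟨t, rfl⟩ := Nat.exists_eq_add_of_le ((Nat.le_add_right _ _).trans hN : N₁ ≤ N)
  refine ⟨fun i => s i ^ t * b i, fun i j => ?_, fun i => ?_⟩
  · obtain ⟨r, rfl⟩ := Nat.exists_eq_add_of_le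
      ((Finset.le_sup (f := m) (Finset.mem_univ (i, j))).trans (by simp only [M] at hN ⊢; omega) : m (i, j) ≤ t)
    have h1 := hm (i, j)
    simp only [map_mul, map_pow]
    rw [hs i j]
    rw [hs i j] at h1
    linear_combination (d.u i j ^ k * rres (inf_le_right : d.W i ⊓ d.W j ≤ _) (s j)) ^ r * h1
  · simp only [map_mul, map_pow, hb i]
    ring

/-- Functions on the locus, as compatible families. -/
theorem exists_extend_fun [QuasiSeparatedSpace X] {s : d.Fam} (hs : d.IsSec k s) (f : Γ(X, d.locus s)) :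
    ∃ N₀, ∀ N, N₀ ≤ N → ∃ c : d.Fam, d.IsSec (N * k) c ∧ ∀ i, rres (X.basicOpen_le (s i)) (c i) =
      rres (X.basicOpen_le (s i)) (s i) ^ N * rres (basicOpen_le_locus s i) f := by
  obtain ⟨N₀, h⟩ := exists_extend (l := 0) hs (fun i => rres (basicOpen_le_locus s i) f) fun i j V hi hj => by
    rw [pow_zero, one_mul, rres_rres, rres_rres]
  refine ⟨N₀, fun N hN => ?_⟩
  obtain ⟨c, hc, hc'⟩ := h N hN
  exact ⟨c, hc.cast (zero_add _), hc'⟩

/-- The quotient of a section by a power of a section, as a function on its locus. -/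
theorem exists_quot {s : d.Fam} (hs : d.IsSec k s) {N : ℕ} (hc : d.IsSec (N * k) c) :
    ∃ f : Γ(X, d.locus s), ∀ i, rres (X.basicOpen_le (s i)) (c i) =
      rres (X.basicOpen_le (s i)) (s i) ^ N * rres (basicOpen_le_locus s i) f := by
  have hu : ∀ i, IsUnit (rres (X.basicOpen_le (s i)) (s i) ^ N) := fun i =>
    (RingedSpace.isUnit_res_basicOpen X.toRingedSpace (s i)).pow N
  choose z hz using fun i => (hu i).dvd (a := rres (X.basicOpen_le (s i)) (c i))
  obtain ⟨f, hf, -⟩ := X.sheaf.existsUnique_gluing' (fun i => X.basicOpen (s i)) (d.locus s)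
    (fun i => homOfLE (basicOpen_le_locus s i)) le_rfl z (fun i j => by
      show rres inf_le_left (z i) = rres inf_le_right (z j)
      set V := X.basicOpen (s i) ⊓ X.basicOpen (s j)
      have hV : V ≤ d.W i ⊓ d.W j := le_inf (inf_le_left.trans (X.basicOpen_le _)) (inf_le_right.trans (X.basicOpen_le _))
      refine ((hu i).map (rres (inf_le_left : V ≤ _)).hom).mul_left_cancel ?_
      have e1 := congrArg (rres (inf_le_left : V ≤ _)) (hz i)
      have e2 := congrArg (rres (inf_le_right : V ≤ _)) (hz j)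
      have e3 := congrArg (rres hV) (hs i j)
      have e4 := congrArg (rres hV) (hc i j)
      simp only [map_mul, map_pow, rres_rres] at e1 e2 e3 e4 ⊢
      rw [← e1, e4, e2, e3]
      ring)
  exact ⟨f, fun i => (hz i).trans (congrArg (_ * ·) (hf i).symm)⟩

end Cyc

end Groth.Agent.Fibres16.NormAmp

end
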