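import Groth.Agent.Fibres16.NormAmp.Congr
import Groth.Agent.AmpleLib.GenNorm.Desc

/-!
# Norms near the bad locus
-/

set_option autoImplicit false
set_option linter.style.haveILetI false

universe u

open CategoryTheory CategoryTheory.Limits AlgebraicGeometry TopologicalSpace Opposite

noncomputable section

namespace Groth.Agent.Fibres16.NormAmp

open Groth.Agent.QCoh Groth.Agent.AmpleLib.GenNorm

variable {X X' : Scheme.{u}} (g : X' ⟶ X) (D : ℕ)

/-- Norms exist locally on `V`. -/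
def HasNmOn (V : X.Opens) : Prop :=
  ∀ (z : X) (V₀ : X.Opens), z ∈ V₀ → V₀ ≤ V → ∀ f : Γ(X', g ⁻¹ᵁ V₀), ∃ (V' : X.Opens) (hle : V' ≤ V₀)
    (N : Γ(X, V')), z ∈ V' ∧ IsNm g D V' (rres (g.preimage_mono hle) f) N

variable {g D}

theorem exists_isNm_of [IsReduced X] {V₁ V : X.Opens} (H : HasNmOn g D V₁) (hV : V ≤ V₁) (f : Γ(X', g ⁻¹ᵁ V)) :
    ∃ N, IsNm g D V f N := by
  choose V' hle N hz hN using fun z : V => H z.1 V z.2 hV f
  obtain ⟨M, hM⟩ := X.sheaf.existsUnique_gluing' V' V (fun z => homOfLE (hle z))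
    (fun z hz' => Opens.mem_iSup.mpr ⟨⟨z, hz'⟩, hz _⟩) N (fun i j => by
      refine eq_of_evaluation_eq fun η hη hηV => ?_
      show X.evaluation _ η hηV (rres inf_le_left (N i)) = X.evaluation _ η hηV (rres inf_le_right (N j))
      rw [evaluation_rres, evaluation_rres, hN i η hη hηV.1, hN j η hη hηV.2]
      exact congrArg (· ^ (D / rk g η))
        ((nAt_res g η (hle i) hηV.1 f).trans (nAt_res g η (hle j) hηV.2 f).symm))
  refine ⟨M, fun η hη hηV => ?_⟩
  have h1 := hN ⟨η, hηV⟩ η hη (hz _)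
  rw [← hM.1 ⟨η, hηV⟩] at h1
  refine ((evaluation_rres (hle ⟨η, hηV⟩) (hz _) M).symm.trans h1).trans ?_
  exact congrArg (· ^ (D / rk g η)) (nAt_res g η (hle ⟨η, hηV⟩) (hz ⟨η, hηV⟩) f)

/-- The points of an affine open off the zero locus of an ideal, one function at a time. -/
theorem exists_congr_nm [IsFinite g] [IsNoetherian X] [IsReduced X] (hD : ∀ η ∈ gens X, rk g η * (D / rk g η) = D)
    {V₁ : X.Opens} (H : HasNmOn g D V₁) {W : X.Opens} (hW : IsAffineOpen W) (I : Ideal Γ(X, W))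
    (hI : ∀ a ∈ I, X.basicOpen a ≤ V₁) :
    ∃ M, 0 < M ∧ ∀ (c : Γ(X, W)) (f : Γ(X', g ⁻¹ᵁ W)),
      f - g.app W c ∈ (I ^ M).map (g.app W).hom → ∃ N : Γ(X, W), IsNm g D W f N ∧ N - c ^ D ∈ I := by
  haveI : IsNoetherianRing Γ(X, W) := IsLocallyNoetherian.component_noetherian ⟨W, hW⟩
  letI := (g.app W).hom.toAlgebra
  haveI : Module.Finite Γ(X, W) Γ(X', g ⁻¹ᵁ W) := g.finite_app W hW
  have hfin : (gens X).Finite := genericPoints.finite NoetherianSpace.finite_irreducibleComponents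
  let H' := {η : X // η ∈ gens X ∧ η ∈ W}
  haveI : Finite H' := Set.finite_coe_iff.2 (hfin.subset fun η hη => hη.1 : {η : X | η ∈ gens X ∧ η ∈ W}.Finite)
  letI : ∀ h : H', Algebra (X.residueField h.1) Γ(g.fiber h.1, ⊤) := fun h => fibAlg g h.1
  haveI : ∀ h : H', Module.Finite (X.residueField h.1) Γ(g.fiber h.1, ⊤) := fun h => finite_fib g h.1
  obtain ⟨M, hM0, hM⟩ := exists_congr (A := Γ(X, W)) (B := Γ(X', g ⁻¹ᵁ W))
    (fun h : H' => ↑(X.residueField h.1)) (fun h => ↑Γ(g.fiber h.1, ⊤))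
    (fun h => (X.evaluation W h.1 h.2.2).hom) (fun h => toFib g h.1 W h.2.2)
    (fun h a => toFib_app g h.1 h.2.2 a) (fun h => D / rk g h.1) D (fun h => hD h.1 h.2.1) I
  refine ⟨M, hM0, fun c f hf => ?_⟩
  obtain ⟨N, hN, hNc⟩ := hM c f hf fun a ha => by
    obtain ⟨N₀, hN₀⟩ := exists_isNm_of H (hI a ha) (rres (g.preimage_mono (X.basicOpen_le a)) f)
    have := hW.isLocalization_basicOpen a
    obtain ⟨⟨a', ⟨_, n, rfl⟩⟩, ha'⟩ := IsLocalization.surj (Submonoid.powers a) N₀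
    refine ⟨n + 1, a' * a, fun h => ?_⟩
    show X.evaluation W h.1 h.2.2 (a' * a) = _
    by_cases hη : h.1 ∈ X.basicOpen a
    · have h0 : N₀ * rres (X.basicOpen_le a) (a ^ n) = rres (X.basicOpen_le a) a' := ha'
      have h1 := congrArg (X.evaluation (X.basicOpen a) h.1 hη) h0
      rw [map_mul, evaluation_rres, evaluation_rres, hN₀ h.1 h.2.1 hη, map_pow] at h1
      rw [map_mul, ← h1, nAt_res g h.1 (X.basicOpen_le a) hη f, pow_succ]
      show _ = _ * Algebra.norm _ (toFib g h.1 W _ f) ^ (D / rk g h.1)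
      simp only [nAt]
      ring
    · have h0 : X.evaluation W h.1 h.2.2 a = 0 :=
        (Scheme.evaluation_eq_zero_iff_notMem_basicOpen _ h.1 h.2.2 a).mpr hη
      show _ = X.evaluation W h.1 h.2.2 a ^ (n + 1) * _
      rw [map_mul, h0, mul_zero, zero_pow (Nat.succ_ne_zero n), zero_mul]
  exact ⟨N, fun η hη hηW => hN ⟨η, hη, hηW⟩, hNc⟩

/-- The normalised norm is not a unit under a zero of the element which specialises from the fibre. -/
theorem notMem_basicOpen_of_nm [IsFinite g] {W : X.Opens} (hW : IsAffineOpen W) {f : Γ(X', g ⁻¹ᵁ W)}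
    {N : Γ(X, W)} (hN : IsNm g D W f N) {y₀ y : X'} (hy₀ : g y₀ ∈ gens X) (hpos : 0 < D / rk g (g y₀))
    (hsp : y₀ ⤳ y) (hy : g y ∈ W) (hf : y ∉ X'.basicOpen f) : g y ∉ X.basicOpen N := by
  intro hmem
  let V := X.basicOpen N
  have hV : IsAffineOpen V := hW.basicOpen N
  have hVW : V ≤ W := X.basicOpen_le N
  have hyV : g y ∈ V := hmem
  have hηV : g y₀ ∈ V := (hsp.map g.continuous).mem_open V.2 hyV
  let η := g y₀
  letI := (g.app V).hom.toAlgebra
  haveI : Module.Finite Γ(X, V) Γ(X', g ⁻¹ᵁ V) := g.finite_app V hV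
  letI := fibAlg g η
  haveI := finite_fib g η
  let z : g.fiber η := g.asFiber y₀
  let m : Ideal Γ(g.fiber η, ⊤) := RingHom.ker ((g.fiber η).evaluation ⊤ z trivial).hom
  haveI : m.IsPrime := RingHom.ker_isPrime _
  let f' : Γ(X', g ⁻¹ᵁ V) := rres (g.preimage_mono hVW) f
  let Q : Ideal Γ(X', g ⁻¹ᵁ V) := RingHom.ker (X'.evaluation (g ⁻¹ᵁ V) y hyV).hom
  haveI : Q.IsPrime := RingHom.ker_isPrime _
  have hmQ : m.comap (toFib g η V hηV) ≤ Q := by
    intro b hb
    rw [Ideal.mem_comap, RingHom.mem_ker] at hb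
    rw [RingHom.mem_ker]
    refine (Scheme.evaluation_eq_zero_iff_notMem_basicOpen _ y hyV b).mpr fun hyb => ?_
    refine (Scheme.evaluation_eq_zero_iff_notMem_basicOpen (g.fiber η) z
      (show z ∈ (⊤ : (g.fiber η).Opens) from trivial) _).mp hb ?_
    show z ∈ (g.fiber η).basicOpen ((g.fiberι η).appLE (g ⁻¹ᵁ V) ⊤ (fiberι_mem g η hηV) b)
    rw [Scheme.basicOpen_appLE]
    refine ⟨trivial, ?_⟩
    show g.fiberι η z ∈ X'.basicOpen b
    rw [show g.fiberι η z = y₀ from g.fiberι_asFiber y₀]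
    exact hsp.mem_open (X'.basicOpen b).2 hyb
  have hfQ : f' ∈ Q := by
    rw [RingHom.mem_ker]
    refine (Scheme.evaluation_eq_zero_iff_notMem_basicOpen _ y hyV f').mpr fun h => hf ?_
    have h' : y ∈ X'.basicOpen (rres (g.preimage_mono hVW) f) := h
    rw [Scheme.basicOpen_res] at h'
    exact h'.2
  exact norm_not_unit (A := Γ(X, V)) (X.evaluation V η hηV).hom (toFib g η V hηV) (fun a => toFib_app g η hηV a)
    m Q hmQ hfQ hpos (N := rres hVW N) ((hN.res hVW) η hy₀ hηV)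
    (RingedSpace.isUnit_res_basicOpen X.toRingedSpace N)

end Groth.Agent.Fibres16.NormAmp

end
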