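import Groth.Agent.Fibres16.NormAmp.Lift
import Groth.Agent.Fibres16.NormAmp.Bridge
import Groth.Agent.Fibres16.NormAmp.Local
import Groth.Agent.Wt.AmpleThick
import Groth.Agent.Wt.ChevalleyGeneral
import Groth.Agent.S0052
import Mathlib.AlgebraicGeometry.IdealSheaf.Functorial

/-!
# Ampleness descends along finite surjective morphisms when the bad locus is proper
-/

set_option autoImplicit false
set_option linter.style.haveILetI false

universe u

open CategoryTheory CategoryTheory.Limits AlgebraicGeometry TopologicalSpace Opposite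

noncomputable section

namespace Groth.Agent.Fibres16.NormAmp

open Groth.Agent.QCoh Groth.Agent.AmpleLib.GenNorm

variable {X X₁ : Scheme.{u}}

theorem fromSpec_appLE_self {Y : Scheme.{u}} {U : Y.Opens} (hU : IsAffineOpen U) :
    hU.fromSpec.appLE U ⊤ hU.fromSpec_preimage_self.ge = (Scheme.ΓSpecIso Γ(Y, U)).inv := by
  rw [Scheme.Hom.appLE, hU.fromSpec_app_self]
  simp only [Category.assoc]
  erw [← Functor.map_comp, Subsingleton.elim (_ ≫ _) (𝟙 _), CategoryTheory.Functor.map_id, Category.comp_id]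

/-- Functions killed on the pullback of a closed subscheme lie in the extended ideal. -/
theorem mem_map_of_app_eq_zero (h : X₁ ⟶ X) [IsAffineHom h] (I₀ : X.IdealSheafData) {W : X.Opens}
    (hW : IsAffineOpen W) (f : Γ(X₁, h ⁻¹ᵁ W))
    (hf : (pullback.fst h I₀.subschemeι).app (h ⁻¹ᵁ W) f = 0) :
    f ∈ (I₀.ideal ⟨W, hW⟩).map (h.app W).hom := by
  let J := (I₀.ideal ⟨W, hW⟩).map (h.app W).hom
  have hB : IsAffineOpen (h ⁻¹ᵁ W) := hW.preimage h
  let mkB : Γ(X₁, h ⁻¹ᵁ W) ⟶ CommRingCat.of (Γ(X₁, h ⁻¹ᵁ W) ⧸ J) := CommRingCat.ofHom (Ideal.Quotient.mk J)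
  let ψ : CommRingCat.of (Γ(X, W) ⧸ I₀.ideal ⟨W, hW⟩) ⟶ CommRingCat.of (Γ(X₁, h ⁻¹ᵁ W) ⧸ J) :=
    CommRingCat.ofHom (Ideal.quotientMap J (h.app W).hom Ideal.le_comap_map)
  let w := Spec.map mkB ≫ hB.fromSpec
  let v := Spec.map ψ ≫ I₀.subschemeCover.f ⟨W, hW⟩
  have hwv : w ≫ h = v ≫ I₀.subschemeι := by
    have hv : I₀.subschemeCover.f ⟨W, hW⟩ ≫ I₀.subschemeι =
        Spec.map (CommRingCat.ofHom (Ideal.Quotient.mk (I₀.ideal ⟨W, hW⟩))) ≫ hW.fromSpec :=
      (I₀.subschemeCover_map_subschemeι ⟨W, hW⟩).trans (I₀.glueDataObjι_ι ⟨W, hW⟩)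
    have e1 : h.app W ≫ mkB = CommRingCat.ofHom (Ideal.Quotient.mk (I₀.ideal ⟨W, hW⟩)) ≫ ψ := by
      ext a; rfl
    calc w ≫ h = Spec.map mkB ≫ Spec.map (h.app W) ≫ hW.fromSpec := by
          rw [Scheme.Hom.app_eq_appLE, IsAffineOpen.SpecMap_appLE_fromSpec h hW hB le_rfl]
          exact Category.assoc _ _ _
      _ = Spec.map (h.app W ≫ mkB) ≫ hW.fromSpec := by rw [Spec.map_comp, Category.assoc]
      _ = Spec.map ψ ≫ I₀.subschemeCover.f ⟨W, hW⟩ ≫ I₀.subschemeι := by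
          refine Eq.trans ?_ (congrArg (Spec.map ψ ≫ ·) hv.symm)
          rw [e1, Spec.map_comp, Category.assoc]
      _ = v ≫ I₀.subschemeι := (Category.assoc _ _ _).symm
  let l := pullback.lift w v hwv
  have hl : l ≫ pullback.fst h I₀.subschemeι = w := pullback.lift_fst _ _ _
  have e : (⊤ : (Spec (CommRingCat.of (Γ(X₁, h ⁻¹ᵁ W) ⧸ J))).Opens) ≤ w ⁻¹ᵁ (h ⁻¹ᵁ W) := fun x _ => by
    show w x ∈ h ⁻¹ᵁ W
    rw [Scheme.Hom.comp_apply]
    exact hB.range_fromSpec.le ⟨_, rfl⟩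
  have h1 : w.appLE (h ⁻¹ᵁ W) ⊤ e f = 0 := by
    have h2 : w.appLE (h ⁻¹ᵁ W) ⊤ e = (pullback.fst h I₀.subschemeι).app (h ⁻¹ᵁ W) ≫
        l.appLE (pullback.fst h I₀.subschemeι ⁻¹ᵁ (h ⁻¹ᵁ W)) ⊤ (by rw [← Scheme.Hom.comp_preimage, hl]; exact e) := by
      simp only [Scheme.Hom.app_eq_appLE, Scheme.Hom.appLE_comp_appLE, hl]
    rw [h2, CommRingCat.comp_apply, hf, map_zero]
  have h3 : w.appLE (h ⁻¹ᵁ W) ⊤ e = mkB ≫ (Scheme.ΓSpecIso _).inv := by
    rw [Scheme.ΓSpecIso_inv_naturality, ← fromSpec_appLE_self hB, Cyc.appTop_eq_appLE,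
      Scheme.Hom.appLE_comp_appLE]
  rw [h3, CommRingCat.comp_apply] at h1
  have h4 : mkB f = 0 := by
    have := congrArg (Scheme.ΓSpecIso (CommRingCat.of (Γ(X₁, h ⁻¹ᵁ W) ⧸ J))).hom h1
    rwa [Iso.inv_hom_id_apply, map_zero] at this
  exact Ideal.Quotient.eq_zero_iff_mem.1 h4

theorem notMem_basicOpen_of_mem_support {I₀ : X.IdealSheafData} {W : X.affineOpens} {x : X} (hxW : x ∈ W.1)
    (hx : x ∈ I₀.support) {a : Γ(X, W.1)} (ha : a ∈ I₀.ideal W) : x ∉ X.basicOpen a := by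
  have h := (Scheme.IdealSheafData.mem_support_iff_of_mem (I := I₀) hxW).1 hx
  rw [Scheme.mem_zeroLocus_iff] at h
  exact h a ha

/-- A function vanishing over the support is nilpotent modulo the extended ideal. -/
theorem mem_radical_map (h : X₁ ⟶ X) [IsAffineHom h] (I₀ : X.IdealSheafData) {W : X.Opens}
    (hW : IsAffineOpen W) (f : Γ(X₁, h ⁻¹ᵁ W))
    (hf : ∀ y ∈ X₁.basicOpen f, h y ∉ I₀.support) :
    f ∈ ((I₀.ideal ⟨W, hW⟩).map (h.app W).hom).radical := by
  rw [Ideal.radical_eq_sInf, Submodule.mem_sInf]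
  rintro P ⟨hP, hPp⟩
  by_contra hfP
  have hB : IsAffineOpen (h ⁻¹ᵁ W) := hW.preimage h
  let y := hB.fromSpec ⟨P, hPp⟩
  have hy : ∀ b, y ∈ X₁.basicOpen b ↔ b ∉ P := fun b =>
    SetLike.ext_iff.mp (hB.fromSpec_preimage_basicOpen b) ⟨P, hPp⟩
  have hyW : h y ∈ W := hB.range_fromSpec.le ⟨_, rfl⟩
  refine hf y ((hy f).2 hfP) ((Scheme.IdealSheafData.mem_support_iff_of_mem (I := I₀) (U := ⟨W, hW⟩) hyW).2 ?_)
  rw [Scheme.mem_zeroLocus_iff]
  intro a ha ha'
  have h1 : y ∈ h ⁻¹ᵁ X.basicOpen a := ha'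
  rw [Scheme.preimage_basicOpen, hy] at h1
  exact h1 (hP (Ideal.mem_map_of_mem _ ha))

theorem isSec_congr {Y : Scheme.{u}} {ι : Type} {d : Cyc X ι} {a b : Y ⟶ X} [IsAffineHom a] [IsAffineHom b]
    (e : a = b) {c : d.Fam} {k : ℕ} (hc : (d.pull a).IsSec k (d.pb a c))
    (haff : IsAffineOpen ((d.pull a).locus (d.pb a c))) :
    (d.pull b).IsSec k (d.pb b c) ∧ IsAffineOpen ((d.pull b).locus (d.pb b c)) := by
  subst e
  exact ⟨hc, haff⟩

/-- The inclusion of a locus is affine. -/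
theorem isAffineHom_locus_ι {ι : Type} {d : Cyc X ι} {k : ℕ} {s : d.Fam} (hs : d.IsSec k s) :
    IsAffineHom (d.locus s).ι := by
  refine isAffineHom_of_forall_exists_isAffineOpen _ fun x => ?_
  obtain ⟨i, hi⟩ := d.mem_cov x
  refine ⟨d.W i, hi, d.aff i, ?_⟩
  rw [(d.locus s).ι.isAffineOpen_iff_of_isOpenImmersion.symm, Scheme.Hom.image_preimage_eq_opensRange_inf,
    Scheme.Opens.opensRange_ι, hs.locus_inf i]
  exact (d.aff i).basicOpen _

variable {R : Type u} [CommRing R] [IsNoetherianRing R] (p : X ⟶ Spec (CommRingCat.of R))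
  [LocallyOfFiniteType p] [IsSeparated p] [IsNoetherian X] [IsReduced X] (h : X₁ ⟶ X) [IsFinite h] [Surjective h]

/-- Ampleness descends along a finite surjective morphism when norms exist away from a closed set proper
over the base. -/
theorem isAmple_of_pullback (Z : Closeds X)
    (hZ : IsProper ((Scheme.IdealSheafData.vanishingIdeal Z).subschemeι ≫ p))
    (H : ∀ (D : ℕ) (V : X.Opens), Disjoint (V : Set X) Z →
      (∀ η ∈ gens X, rk h η * (D / rk h η) = D) → HasNmOn h D V)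
    {L : X.Modules} (hL : PicF.IsInvertible L)
    (hA : CohB1.IsAmple ((Scheme.Modules.pullback h).obj L)) : CohB1.IsAmple L := by
  classical
  haveI : CompactSpace X := inferInstance
  obtain ⟨r, d, hd⟩ := Cyc.exists_frameData hL
  let d₁ := d.pull h
  have hd₁ : d₁.IsFrameData ((Scheme.Modules.pullback h).obj L) := hd.pull h
  have hfin : (gens X).Finite := genericPoints.finite NoetherianSpace.finite_irreducibleComponents
  let D := ∏ η ∈ hfin.toFinset, rk h η
  have hD : ∀ η ∈ gens X, rk h η * (D / rk h η) = D := fun η hη =>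
    Nat.mul_div_cancel' (Finset.dvd_prod_of_mem _ (hfin.mem_toFinset.mpr hη))
  have hDpos : 0 < D := Finset.prod_pos fun η _ => rk_pos h η
  let Zc : X.Opens := ⟨(Z : Set X)ᶜ, Z.isClosed.isOpen_compl⟩
  have Hc : HasNmOn h D Zc := H D Zc (disjoint_compl_left) hD
  let IZ := Scheme.IdealSheafData.vanishingIdeal Z
  have hsupp : (IZ.support : Set X) = Z := Scheme.IdealSheafData.coe_support_vanishingIdeal _
  have hIle : ∀ (W : X.affineOpens), ∀ a ∈ IZ.ideal W, X.basicOpen a ≤ Zc := fun W a ha x hx hxZ =>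
    notMem_basicOpen_of_mem_support (X.basicOpen_le a hx) (show x ∈ (IZ.support : Set X) by rw [hsupp]; exact hxZ) ha hx
  choose M₀ hM₀pos hM₀ using fun i => exists_congr_nm (g := h) hD Hc (d.aff i) (IZ.ideal ⟨d.W i, d.aff i⟩)
    (hIle ⟨d.W i, d.aff i⟩)
  let M := Finset.univ.sup M₀ + 1
  -- the candidate sections
  suffices key : ∀ x : X, ∃ (n : ℕ) (σ : d₁.Fam) (c : d.Fam), 0 < n ∧ d₁.IsSec n σ ∧ IsAffineOpen (d₁.locus σ) ∧
      (∀ i, σ i - h.app (d.W i) (c i) ∈ (IZ.ideal ⟨d.W i, d.aff i⟩ ^ M).map (h.app (d.W i)).hom) ∧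
      ((x ∈ (Z : Set X) ∧ ∃ i, x ∈ X.basicOpen (c i)) ∨ (x ∉ (Z : Set X) ∧ h ⁻¹' {x} ⊆ d₁.locus σ)) by
    refine hd.isAmple hL fun x => ?_
    obtain ⟨n, σ, c, hn, hσ, haff, hcongr, hx⟩ := key x
    have hN : ∀ i, ∃ N : Γ(X, d.W i), IsNm h D (d.W i) (σ i) N ∧
        N - c i ^ D ∈ IZ.ideal ⟨d.W i, d.aff i⟩ := fun i => hM₀ i (c i) (σ i) (by
      refine Ideal.map_mono (Ideal.pow_le_pow_right ?_) (hcongr i)
      have := Finset.le_sup (f := M₀) (Finset.mem_univ i)
      omega)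
    choose N hNm hNc using hN
    have hsec : d.IsSec (n * D) N := fun i j => by
      refine IsNm.eq ((hNm i).res inf_le_left) ?_
      rw [show rres (h.preimage_mono (inf_le_left : d.W i ⊓ d.W j ≤ d.W i)) (σ i) =
        h.app (d.W i ⊓ d.W j) (d.u i j ^ n) * rres (h.preimage_mono (inf_le_right : d.W i ⊓ d.W j ≤ d.W j)) (σ j) from
        (hσ i j).trans (by rw [map_pow]; rfl), pow_mul]
      exact ((hNm j).res inf_le_right).app_mul hD
    refine ⟨n * D, N, Nat.mul_pos hn hDpos, hsec, ?_, ?_⟩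
    · obtain ⟨hxZ, i, hxi⟩ | ⟨hxZ, hxσ⟩ := hx
      · refine Cyc.basicOpen_le_locus N i ?_
        have hxW : x ∈ d.W i := X.basicOpen_le _ hxi
        by_contra hne
        have h0 := notMem_basicOpen_of_mem_support (W := ⟨d.W i, d.aff i⟩) hxW
          (show x ∈ (IZ.support : Set X) by rw [hsupp]; exact hxZ) (hNc i)
        rw [← Scheme.evaluation_eq_zero_iff_notMem_basicOpen _ x hxW] at h0 hne
        rw [map_sub, map_pow, hne, zero_sub, neg_eq_zero] at h0
        exact (Scheme.evaluation_eq_zero_iff_notMem_basicOpen _ x hxW (c i)).1 (eq_zero_of_pow_eq_zero h0) hxi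
      · obtain ⟨i, hxi⟩ := d.mem_cov x
        refine Cyc.basicOpen_le_locus N i ?_
        have hclosed : IsClosed (h '' ((d₁.locus σ : Set X₁)ᶜ)) :=
          h.isClosedMap _ (d₁.locus σ).2.isClosed_compl
        let V : X.Opens := ⟨((d.W i : Set X) \ h '' ((d₁.locus σ : Set X₁)ᶜ)) ∩ Zc,
          ((d.W i).2.sdiff hclosed).inter Zc.2⟩
        have hxV : x ∈ V := ⟨⟨hxi, fun ⟨y, hy, hyx⟩ => hy (hxσ hyx)⟩, hxZ⟩
        have hVW : V ≤ d.W i := fun z hz => hz.1.1
        have hVσ : h ⁻¹ᵁ V ≤ d₁.locus σ := fun y (hy : h y ∈ V) => not_not.mp fun hn' => hy.1.2 ⟨y, hn', rfl⟩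
        have hu : IsUnit (rres (h.preimage_mono hVW) (σ i)) := hσ.isUnit_res hVσ (h.preimage_mono hVW)
        obtain ⟨f', hf'⟩ := isUnit_iff_exists_inv.mp hu
        obtain ⟨N', hN'⟩ := exists_isNm_of Hc (fun z hz => hz.2 : V ≤ Zc) f'
        have h5 := X.basicOpen_of_isUnit (((hNm i).res hVW).isUnit hN' hf')
        rw [Scheme.basicOpen_res, inf_eq_left] at h5
        exact h5 hxV
    · -- the locus is affine
      let G : Set X₁ := h ⁻¹' (gens X)
      have hGfin : G.Finite := by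
        have : G = ⋃ η ∈ gens X, h ⁻¹' {η} := by ext; simp [G]
        rw [this]
        exact hfin.biUnion fun η _ => h.finite_preimage_singleton η
      let X₁' : X₁.IdealSheafData := Scheme.IdealSheafData.vanishingIdeal ⟨closure G, isClosed_closure⟩
      let i₁ := X₁'.subschemeι
      have hrange : Set.range i₁ = closure G := by
        rw [Scheme.IdealSheafData.range_subschemeι, Scheme.IdealSheafData.coe_support_vanishingIdeal]
        rfl
      let h' := i₁ ≫ h
      haveI : Surjective h' := ⟨fun z => by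
        obtain ⟨η, hη, hηz⟩ := exists_gen_specializes z
        obtain ⟨y₀, hy₀⟩ := h.surjective η
        obtain ⟨y, hy, hyz⟩ : z ∈ h '' closure G := by
          refine (h.isClosedMap _ isClosed_closure).closure_eq.subset ?_
          refine closure_mono ?_ (specializes_iff_mem_closure.1 hηz)
          rw [Set.singleton_subset_iff]
          refine ⟨y₀, subset_closure ?_, hy₀⟩
          show h y₀ ∈ gens X
          rw [hy₀]; exact hη
        obtain ⟨y', rfl⟩ := (hrange.ge hy)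
        exact ⟨y', by rw [Scheme.Hom.comp_apply]; exact hyz⟩⟩
      let O := d.locus N
      have hsub : h' ⁻¹ᵁ O ≤ i₁ ⁻¹ᵁ d₁.locus σ := by
        intro y' hy'
        obtain ⟨j, hj⟩ := d.mem_cov (h' y')
        have hyj : h' y' ∈ X.basicOpen (N j) := (hsec.locus_inf j).le ⟨hy', hj⟩
        by_contra hn'
        have hyG : i₁ y' ∈ closure G := hrange.le ⟨_, rfl⟩
        rw [show closure G = ⋃ y₀ ∈ G, closure {y₀} by
          rw [← hGfin.closure_biUnion, Set.biUnion_of_singleton]] at hyG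
        obtain ⟨y₀, hy₀, hsp⟩ := Set.mem_iUnion₂.1 hyG
        refine notMem_basicOpen_of_nm (d.aff j) (hNm j) (y := i₁ y') hy₀ ?_
          (specializes_iff_mem_closure.2 hsp) hj (fun hb => hn' (Cyc.basicOpen_le_locus σ j hb)) hyj
        exact Nat.pos_of_ne_zero fun h0 => by
          have := hD _ hy₀
          rw [h0, Nat.mul_zero] at this
          omega
      haveI : IsAffineHom (h' ⁻¹ᵁ O).ι := by
        rw [← Cyc.locus_pb h' N]
        exact isAffineHom_locus_ι (hsec.pb h')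
      have haff' : IsAffineOpen (h' ⁻¹ᵁ O) := by
        have h1 := (((haff.preimage i₁).preimage (h' ⁻¹ᵁ O).ι)).image_of_isOpenImmersion (h' ⁻¹ᵁ O).ι
        rwa [Scheme.Hom.image_preimage_eq_opensRange_inf, Scheme.Opens.opensRange_ι, inf_eq_left.2 hsub] at h1
      haveI : IsAffine (h' ⁻¹ᵁ O).toScheme := haff'
      haveI : Surjective (h' ∣_ O) := IsZariskiLocalAtTarget.restrict ‹_› O
      haveI : IsFinite (h' ∣_ O) := IsZariskiLocalAtTarget.restrict (inferInstanceAs (IsFinite (i₁ ≫ h))) O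
      exact Wt.Chevalley.isAffine (h' ∣_ O)
  intro x
  by_cases hxZ : x ∈ (Z : Set X)
  · -- lift a section of the thickening
    haveI := hA.2.1
    let I₀ := IZ ^ M
    haveI : IsProper (I₀.subschemeι ≫ p) := by
      have hle : I₀ ≤ IZ := fun W => by
        rw [Scheme.IdealSheafData.ideal_pow]
        exact Ideal.pow_le_self (Nat.succ_ne_zero _)
      let j := Scheme.IdealSheafData.inclusion hle
      haveI : IsProper (j ≫ I₀.subschemeι ≫ p) := by
        rw [Scheme.IdealSheafData.inclusion_subschemeι_assoc]; exact hZ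
      haveI : Surjective j := ⟨fun z => by
        have hz : I₀.subschemeι z ∈ Set.range IZ.subschemeι := by
          rw [Scheme.IdealSheafData.range_subschemeι, ← Scheme.IdealSheafData.support_pow IZ M (Nat.succ_ne_zero _),
            ← Scheme.IdealSheafData.range_subschemeι]
          exact ⟨z, rfl⟩
        obtain ⟨z', hz'⟩ := hz
        refine ⟨z', I₀.subschemeι.isClosedEmbedding.injective ?_⟩
        rw [← Scheme.Hom.comp_apply, Scheme.IdealSheafData.inclusion_subschemeι]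
        exact hz'⟩
      haveI : UniversallyClosed (I₀.subschemeι ≫ p) := UniversallyClosed.of_comp_surjective j _
      exact {}
    let zι := I₀.subschemeι
    let g := pullback.fst h zι
    let q := pullback.snd h zι
    haveI : IsClosedImmersion g := MorphismProperty.pullback_fst h zι inferInstance
    haveI : IsFinite q := MorphismProperty.pullback_snd h zι inferInstance
    haveI : Surjective q := MorphismProperty.pullback_snd h zι inferInstance
    haveI : IsProper (q ≫ zι ≫ p) := inferInstance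
    have hsq : q ≫ zι = g ≫ h := pullback.condition.symm
    have hamp0 : CohB1.IsAmple ((Scheme.Modules.pullback zι).obj L) := by
      refine (Groth.Agent.S0052.result R (zι ≫ p) (q ≫ zι ≫ p) q rfl _ (PicCl.isInvertible_pullback zι hL)).2 ?_
      refine AmpleLib.isAmple_of_iso ?_ (Wt.AmpleThick.isAmple_pullback g hA)
      exact ((Scheme.Modules.pullbackComp g h).app L) ≪≫ ((Scheme.Modules.pullbackCongr hsq.symm).app L) ≪≫
        ((Scheme.Modules.pullbackComp q zι).app L).symm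
    obtain ⟨z, hz⟩ : x ∈ Set.range zι := by
      rw [Scheme.IdealSheafData.range_subschemeι, Scheme.IdealSheafData.support_pow IZ M (Nat.succ_ne_zero _), hsupp]
      exact hxZ
    obtain ⟨n₁, t₀, hn₁, ht₀, hzt, ht₀aff⟩ := (hd.pull zι).exists_of_isAmple hamp0 z
    obtain ⟨rk', n₂, σ, hn₂, hσ, hσaff, hσcov⟩ := hd₁.exists_common hA
    have hσ' : ∀ k, d₁.IsSec (n₁ * n₂) (σ k ^ n₁) := fun k => ((hσ k).pow n₁).cast (Nat.mul_comm _ _)
    have hσl : ∀ k, d₁.locus (σ k ^ n₁) = d₁.locus (σ k) := fun k => Cyc.IsSec.locus_pow (k := n₂) (c := σ k) hn₁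
    let t₁ := t₀ ^ n₂
    have ht₁ : (d.pull zι).IsSec (n₁ * n₂) t₁ := ht₀.pow n₂
    have ht₁l : (d.pull zι).locus t₁ = (d.pull zι).locus t₀ := Cyc.IsSec.locus_pow (k := n₁) (c := t₀) hn₂
    choose c hc using fun i => zι.app_surjective (d.W i) (d.aff i) (t₁ i)
    have hcpb : d.pb zι c = t₁ := funext hc
    have h2 : ((d.pull zι).pull q).IsSec (n₁ * n₂) ((d.pull zι).pb q t₁) := ht₁.pb q
    have h2a : IsAffineOpen (((d.pull zι).pull q).locus ((d.pull zι).pb q t₁)) := by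
      rw [Cyc.locus_pb, ht₁l]
      exact ht₀aff.preimage q
    rw [← hcpb] at h2 h2a
    obtain ⟨ht, htaff⟩ := isSec_congr (a := q ≫ zι) (b := g ≫ h) hsq (c := c) (k := n₁ * n₂) h2 h2a
    haveI : QuasiSeparatedSpace X₁ := Props.AmpleBase.quasiSeparatedSpace_of_isAmple hA
    haveI : UniversallyClosed (g ≫ h ≫ p) := by
      rw [← reassoc_of% hsq]; infer_instance
    obtain ⟨m, C, hm, hC, hC', hCaff⟩ := exists_affine_lift (d := d₁) g (h ≫ p) (σ := fun k => σ k ^ n₁) hσ'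
      (fun k => (hσl k).symm ▸ hσaff k) (fun w => by
        obtain ⟨k, hk⟩ := hσcov (g w)
        exact ⟨k, (hσl k).symm ▸ hk⟩)
      (t := d₁.pb g (d.pb h c)) (Nat.mul_pos hn₁ hn₂) ht htaff
    refine ⟨m * (n₁ * n₂), C, c ^ m, Nat.mul_pos hm (Nat.mul_pos hn₁ hn₂), hC, hCaff, fun i => ?_, Or.inl ⟨hxZ, ?_⟩⟩
    · have h3 : IZ.ideal ⟨d.W i, d.aff i⟩ ^ M = I₀.ideal ⟨d.W i, d.aff i⟩ := rfl
      rw [h3]
      refine mem_map_of_app_eq_zero h I₀ (d.aff i) _ ?_
      show g.app (h ⁻¹ᵁ d.W i) (C i - h.app (d.W i) ((c ^ m) i)) = 0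
      rw [map_sub, sub_eq_zero, Pi.pow_apply, map_pow, map_pow]
      exact congrFun hC' i
    · obtain ⟨i, hi⟩ := d.mem_cov x
      refine ⟨i, ?_⟩
      rw [Pi.pow_apply, X.basicOpen_pow _ hm]
      have h4 : z ∈ (d.pull zι).locus t₁ ⊓ (d.pull zι).W i := ⟨ht₁l.symm ▸ hzt, show zι z ∈ d.W i by rw [hz]; exact hi⟩
      rw [ht₁.locus_inf i, ← hc i] at h4
      have h5 : z ∈ zι ⁻¹ᵁ X.basicOpen (c i) := by rw [Scheme.preimage_basicOpen]; exact h4
      exact hz ▸ h5
  · -- a section vanishing over the bad locus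
    obtain ⟨A, hAa, hxA, hAZ⟩ := exists_isAffineOpen_mem_and_subset (X := X) (x := x) (U := Zc) hxZ
    obtain ⟨n, σ, hn, hσ, hEσ, hσA, hσaff⟩ := hd₁.exists_superset hA (h.finite_preimage_singleton x)
      (U := h ⁻¹ᵁ A) (fun y hy => (show h y ∈ A from (show h y = x from hy) ▸ hxA))
    have hrad : ∀ i, ∃ P, σ i ^ P ∈ (IZ.ideal ⟨d.W i, d.aff i⟩ ^ M).map (h.app (d.W i)).hom := fun i => by
      obtain ⟨P, hP⟩ := mem_radical_map h IZ (d.aff i) (σ i) fun y hy hys => hAZ (hσA (Cyc.basicOpen_le_locus σ i hy))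
        (hsupp ▸ hys)
      exact ⟨P * M, by rw [pow_mul, Ideal.map_pow]; exact Ideal.pow_mem_pow hP M⟩
    choose P hP using hrad
    let Q := Finset.univ.sup P + 1
    refine ⟨n * Q, σ ^ Q, 0, Nat.mul_pos hn (Nat.succ_pos _), hσ.pow Q, ?_, fun i => ?_, Or.inr ⟨hxZ, ?_⟩⟩
    · rw [Cyc.IsSec.locus_pow (k := n) (c := σ) (Nat.succ_pos _)]; exact hσaff
    · rw [Pi.zero_apply, map_zero, sub_zero, Pi.pow_apply]
      obtain ⟨e, he⟩ := Nat.exists_eq_add_of_le ((Finset.le_sup (f := P) (Finset.mem_univ i)).trans (Nat.le_succ _) : P i ≤ Q)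
      rw [he, pow_add (σ i)]
      exact Ideal.mul_mem_right _ _ (hP i)
    · rw [Cyc.IsSec.locus_pow (k := n) (c := σ) (Nat.succ_pos _)]
      exact fun y hy => hEσ hy

end Groth.Agent.Fibres16.NormAmp

end
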