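import Mathlib.RingTheory.Valuation.LocalSubring
import Mathlib.RingTheory.Ideal.MinimalPrime.Localization
import Mathlib.RingTheory.Localization.FractionRing
import Mathlib.Algebra.Algebra.Operations
import Mathlib.Combinatorics.Pigeonhole

/-!
# The algebra of lifting sections of high powers
-/

set_option autoImplicit false
set_option linter.style.haveILetI false

universe u v w

namespace Groth.Agent.Fibres16.NormAmp

open Submodule

section Unit

variable {G F : Type u} [CommRing G] [CommRing F] [Algebra G F] {κ : Type v} (f : κ → F)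

/-- If no valuation nonnegative on `G[f]` is positive on all of the `f`, then `1` is a combination of
homogeneous forms of positive degree in the `f`. -/
theorem exists_one_mem (hval : ∀ (K : Type u) [Field K] (φ : F →+* K) (V : ValuationSubring K),
      (∀ a : G, φ (algebraMap G F a) ∈ V) → (∀ k, φ (f k) ∈ V.nonunits) → False) :
    ∃ E, (1 : F) ∈ ⨆ a ∈ Finset.Icc 1 E, (span G (Set.range f)) ^ a := by
  let C := Algebra.adjoin G (Set.range f)
  let fC : κ → C := fun k => ⟨f k, Algebra.subset_adjoin ⟨k, rfl⟩⟩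
  have htop : Ideal.span (Set.range fC) = ⊤ := by
    by_contra hne
    obtain ⟨P, hP, hle⟩ := Ideal.exists_le_maximal _ hne
    obtain ⟨P₀, hP₀, hle₀⟩ := Ideal.exists_minimalPrimes_le (I := (⊥ : Ideal C)) (J := P) bot_le
    obtain ⟨p, hp, hpc⟩ := Ideal.exists_comap_eq_of_mem_minimalPrimes_of_injective
      (f := C.val.toRingHom) Subtype.val_injective P₀ hP₀
    let K := FractionRing (F ⧸ p)
    let φ : F →+* K := (algebraMap (F ⧸ p) K).comp (Ideal.Quotient.mk p)
    let π : C →+* K := φ.comp C.val.toRingHom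
    let I : Ideal π.range := P.map π.rangeRestrict
    have hI : I ≠ ⊤ := fun hI => by
      have h1 := congrArg (Ideal.comap π.rangeRestrict) hI
      rw [Ideal.comap_map_of_surjective _ π.rangeRestrict_surjective, Ideal.comap_top] at h1
      refine hP.ne_top (top_le_iff.mp (h1.ge.trans (sup_le le_rfl fun a ha => hle₀ ?_)))
      have ha' : π a = 0 := congrArg Subtype.val (Ideal.mem_comap.mp ha)
      rw [← hpc]
      exact (Ideal.Quotient.eq_zero_iff_mem (I := p) (a := C.val.toRingHom a)).1
        ((map_eq_zero_iff (algebraMap (F ⧸ p) K) (IsFractionRing.injective (F ⧸ p) K)).1 ha')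
    obtain ⟨V, hV, hVI⟩ := Ideal.image_subset_nonunits_valuationSubring I hI
    exact hval K φ V (fun a => hV ⟨algebraMap G C a, rfl⟩) fun k =>
      hVI ⟨_, Ideal.mem_map_of_mem π.rangeRestrict (hle (Ideal.subset_span ⟨k, rfl⟩)), rfl⟩
  let M : Submodule G F := span G (Set.range f)
  let D : Submodule G F := ⨆ a, M ^ (a + 1)
  have hpow : ∀ c : F, c ∈ C → ∀ k, c * f k ∈ D := by
    intro c hc k
    have hc' : c ∈ Subalgebra.toSubmodule C := hc
    rw [Algebra.adjoin_eq_span] at hc'
    clear hc
    induction hc' using Submodule.span_induction with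
    | mem m hm =>
      obtain ⟨a, ha⟩ : ∃ a, m ∈ M ^ a := by
        induction hm using Submonoid.closure_induction with
        | mem x hx => exact ⟨1, (pow_one M).symm ▸ subset_span hx⟩
        | one => exact ⟨0, by simpa using one_le.mp (le_refl (1 : Submodule G F))⟩
        | mul x y _ _ hx hy =>
          obtain ⟨a, ha⟩ := hx; obtain ⟨b, hb⟩ := hy
          exact ⟨a + b, pow_add M a b ▸ mul_mem_mul ha hb⟩
      exact mem_iSup_of_mem a (pow_succ M a ▸ mul_mem_mul ha (subset_span ⟨k, rfl⟩))
    | zero => rw [zero_mul]; exact zero_mem _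
    | add x y _ _ hx hy => rw [add_mul]; exact add_mem hx hy
    | smul r x _ hx => rw [smul_mul_assoc]; exact smul_mem _ r hx
  have h1 : (1 : F) ∈ D := by
    have h2 : (1 : C) ∈ Ideal.span (Set.range fC) := htop ▸ Submodule.mem_top
    have h3 : ∀ x ∈ Ideal.span (Set.range fC), ∀ c : C, ((c * x : C) : F) ∈ D := by
      intro x hx
      induction hx using Submodule.span_induction with
      | mem y hy =>
        obtain ⟨k, rfl⟩ := hy
        exact fun c => hpow _ c.2 k
      | zero => intro c; rw [mul_zero]; exact zero_mem _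
      | add y z _ _ hy hz => intro c; rw [mul_add]; exact add_mem (hy c) (hz c)
      | smul r y _ hy => intro c; rw [smul_eq_mul, ← mul_assoc]; exact hy _
    simpa using h3 1 h2 1
  obtain ⟨s, hs⟩ := Submodule.exists_finset_of_mem_iSup _ h1
  refine ⟨s.sup id + 1, ?_⟩
  suffices h : (⨆ i ∈ s, M ^ (i + 1)) ≤ ⨆ a ∈ Finset.Icc 1 (s.sup id + 1), M ^ a from h hs
  refine iSup₂_le fun a ha => le_iSup₂_of_le (a + 1) ?_ le_rfl
  have := Finset.le_sup (f := id) ha
  simp only [id] at this
  exact Finset.mem_Icc.2 ⟨by omega, by omega⟩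

end Unit

section Raise

variable {G A : Type u} [CommRing G] [CommRing A] [Algebra G A] {κ : Type v} [Fintype κ] (s : κ → A)

theorem prod_mem_pow {α : Type*} (T : Finset α) (x : α → A) (P : Submodule G A) (h : ∀ i ∈ T, x i ∈ P) :
    ∏ i ∈ T, x i ∈ P ^ T.card := by
  classical
  induction T using Finset.induction with
  | empty => simpa using one_le.mp (le_refl (1 : Submodule G A))
  | insert a T ha ih =>
    rw [Finset.prod_insert ha, Finset.card_insert_of_notMem ha, pow_succ']
    exact mul_mem_mul (h a (Finset.mem_insert_self _ _)) (ih fun i hi => h i (Finset.mem_insert_of_mem hi))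

/-- Products of many factors contain a high power of one of them. -/
theorem span_pow_le (N : ℕ) : ∃ M, N ≤ M ∧ (span G (Set.range s)) ^ M ≤
    ⨆ k, (span G {s k ^ N}) * (span G (Set.range s)) ^ (M - N) := by
  classical
  refine ⟨Fintype.card κ * N + N + 1, by omega, ?_⟩
  generalize hM : Fintype.card κ * N + N + 1 = M
  rw [Submodule.span_pow, Submodule.span_le]
  rintro x hx
  obtain ⟨f, rfl⟩ := Set.mem_pow.1 hx
  choose g hg using fun i => (f i).2
  have hne : Nonempty κ := by
    obtain ⟨m, hm⟩ : ∃ m, M = m + 1 := ⟨Fintype.card κ * N + N, hM.symm⟩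
    subst hm
    exact ⟨g 0⟩
  obtain ⟨k, hk⟩ := Fintype.exists_le_card_fiber_of_mul_le_card (n := N) g (by rw [Fintype.card_fin]; omega)
  obtain ⟨S, hS, hScard⟩ := Finset.exists_subset_card_eq hk
  refine mem_iSup_of_mem k ?_
  rw [show (List.ofFn fun i => (f i : A)).prod = ∏ i, s (g i) by
    rw [List.prod_ofFn]; exact Finset.prod_congr rfl fun i _ => (hg i).symm]
  rw [← Finset.prod_mul_prod_compl S]
  refine mul_mem_mul ?_ ?_
  · rw [Finset.prod_congr rfl fun i hi => by rw [(Finset.mem_filter.1 (hS hi)).2], Finset.prod_const, hScard]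
    exact mem_span_singleton_self _
  · have h1 := prod_mem_pow Sᶜ (fun i => s (g i)) (span G (Set.range s)) fun i _ => subset_span ⟨g i, rfl⟩
    rwa [Finset.card_compl, hScard, Fintype.card_fin] at h1

variable {s} {Lft : ℕ → Submodule G A}

/-- Raising the exponent. -/
theorem exists_raise (hmul : ∀ a b, Lft a * Lft b ≤ Lft (a + b)) (hone : (1 : Submodule G A) ≤ Lft 0)
    (hs : ∀ k, s k ∈ Lft 1) (t : A) {E : ℕ}
    (hE : t ^ E ∈ ⨆ a ∈ Finset.Icc 1 E, (span G (Set.range s)) ^ a * span G {t ^ (E - a)})
    (γ : A) (q : ℕ) (hbase : ∀ (j : ℕ) (k : κ), ∃ N, ∀ N', N ≤ N' → s k ^ N' * γ * t ^ j ∈ Lft (q + j + N')) :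
    ∃ m₀, ∀ m, m₀ ≤ m → γ * t ^ m ∈ Lft (q + m) := by
  let S := span G (Set.range s)
  have hS : ∀ a, S ^ a ≤ Lft a := by
    intro a
    induction a with
    | zero => simpa using hone
    | succ a ih => rw [pow_succ]; exact (mul_le_mul' ih (span_le.2 (Set.range_subset_iff.2 hs))).trans (hmul a 1)
  choose N₀ hN₀ using hbase
  let N := (Finset.range (E + 1) ×ˢ Finset.univ).sup fun p : ℕ × κ => N₀ p.1 p.2
  obtain ⟨M, hMN, hM⟩ := span_pow_le (G := G) s N
  have hP : ∀ j, S ^ M * span G {γ * t ^ j} ≤ Lft (q + M + j) := by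
    intro j
    induction j using Nat.strong_induction_on with
    | h j ih =>
      by_cases hj : j ≤ E
      · refine (mul_le_mul' hM le_rfl).trans ?_
        rw [Submodule.iSup_mul]
        refine iSup_le fun k => ?_
        have h1 : s k ^ N * γ * t ^ j ∈ Lft (q + j + N) := hN₀ j k N
          (Finset.le_sup (f := fun p : ℕ × κ => N₀ p.1 p.2) (b := (j, k))
            (Finset.mem_product.2 ⟨Finset.mem_range.2 (by omega), Finset.mem_univ k⟩))
        rw [mul_right_comm, Submodule.span_mul_span, Set.singleton_mul_singleton, ← mul_assoc]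
        refine (mul_le_mul' ((span_singleton_le_iff_mem _ _).2 h1) (hS (M - N))).trans
          ((hmul _ _).trans_eq ?_)
        congr 1; omega
      · have h2 : γ * t ^ j = t ^ E * (γ * t ^ (j - E)) := by
          rw [mul_left_comm, ← pow_add]; congr 2; omega
        have h3 : span G {γ * t ^ j} ≤
            (⨆ a ∈ Finset.Icc 1 E, S ^ a * span G {t ^ (E - a)}) * span G {γ * t ^ (j - E)} := by
          rw [span_singleton_le_iff_mem, h2]
          exact mul_mem_mul hE (mem_span_singleton_self _)
        refine (mul_le_mul' le_rfl h3).trans ?_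
        simp only [Submodule.iSup_mul, Submodule.mul_iSup]
        refine iSup₂_le fun a ha => ?_
        obtain ⟨ha1, haE⟩ := Finset.mem_Icc.1 ha
        rw [mul_assoc (S ^ a), Submodule.span_mul_span, Set.singleton_mul_singleton, mul_left_comm (S ^ M)]
        rw [show t ^ (E - a) * (γ * t ^ (j - E)) = γ * t ^ (j - a) by
          rw [mul_left_comm, ← pow_add]; congr 2; omega]
        refine (mul_le_mul' (hS a) (ih (j - a) (by omega))).trans ((hmul _ _).trans_eq ?_)
        congr 1; omega
  have hJ : ∀ i, t ^ (E * i) ∈ ⨆ a ∈ Finset.Icc i (E * i), S ^ a * span G {t ^ (E * i - a)} := by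
    intro i
    induction i with
    | zero =>
      refine mem_iSup_of_mem 0 (mem_iSup_of_mem (by simp) ?_)
      simpa using one_le.mp (le_refl (1 : Submodule G A))
    | succ i ih =>
      rw [Nat.mul_succ, pow_add]
      have h1 := mul_mem_mul ih hE
      revert h1
      refine fun h1 => ?_
      refine (?_ : _ ≤ (_ : Submodule G A)) h1
      simp only [Submodule.iSup_mul, Submodule.mul_iSup]
      refine iSup₂_le fun b hb => iSup₂_le fun a ha => ?_
      rw [mul_mul_mul_comm, ← pow_add, Submodule.span_mul_span, Set.singleton_mul_singleton, ← pow_add]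
      obtain ⟨ha1, ha2⟩ := Finset.mem_Icc.1 ha
      obtain ⟨hb1, hb2⟩ := Finset.mem_Icc.1 hb
      refine le_iSup₂_of_le (a + b) (Finset.mem_Icc.2 ⟨by omega, by omega⟩) ?_
      rw [show E * i - a + (E - b) = E * i + E - (a + b) by omega]
      try exact le_rfl
  refine ⟨E * M, fun m hm => ?_⟩
  obtain ⟨j, rfl⟩ := Nat.exists_eq_add_of_le hm
  have h1 : γ * t ^ (E * M + j) ∈ (⨆ a ∈ Finset.Icc M (E * M), S ^ a * span G {t ^ (E * M - a)}) *
      span G {γ * t ^ j} := by
    rw [show γ * t ^ (E * M + j) = t ^ (E * M) * (γ * t ^ j) by rw [pow_add]; ring]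
    exact mul_mem_mul (hJ M) (mem_span_singleton_self _)
  revert h1
  refine fun h1 => (?_ : _ ≤ (_ : Submodule G A)) h1
  simp only [Submodule.iSup_mul]
  refine iSup₂_le fun a ha => ?_
  obtain ⟨ha1, ha2⟩ := Finset.mem_Icc.1 ha
  obtain ⟨b, rfl⟩ := Nat.exists_eq_add_of_le ha1
  rw [mul_assoc, Submodule.span_mul_span, Set.singleton_mul_singleton, pow_add, mul_comm (S ^ M), mul_assoc,
    show t ^ (E * M - (M + b)) * (γ * t ^ j) = γ * t ^ (E * M - (M + b) + j) by rw [pow_add]; ring]
  refine (mul_le_mul' (hS b) (hP _)).trans ((hmul _ _).trans_eq ?_)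
  congr 1; omega

end Raise

end Groth.Agent.Fibres16.NormAmp
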