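import Groth.Agent.Fibres16.NormAmp.Cyc
import Groth.Agent.Fibres16.NormAmp.Graded
import Mathlib.AlgebraicGeometry.ValuativeCriterion
import Mathlib.AlgebraicGeometry.Morphisms.ClosedImmersion
import Mathlib.AlgebraicGeometry.Morphisms.Proper

/-!
# Lifting high powers of sections from a closed subscheme proper over the base
-/

set_option autoImplicit false
set_option linter.style.haveILetI false

universe u

open CategoryTheory AlgebraicGeometry TopologicalSpace Opposite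

noncomputable section

namespace Groth.Agent.Fibres16.NormAmp

open Groth.Agent.QCoh

variable {X T : Scheme.{u}} {ι : Type} {d : Cyc X ι} {κ : Type}

namespace Cyc

theorem locus_le_iSup (c : d.Fam) : d.locus c ≤ ⨆ i, X.basicOpen (c i) := le_rfl

/-- Equality of functions on the locus of a section. -/
theorem eq_of_locus {s : d.Fam} {V : X.Opens} (hV : V ≤ d.locus s) {a b : Γ(X, V)}
    (h : ∀ i (W : X.Opens) (hW : W ≤ V), W ≤ X.basicOpen (s i) → rres hW a = rres hW b) : a = b := by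
  refine X.sheaf.eq_of_locally_eq' (fun i => V ⊓ X.basicOpen (s i)) V (fun i => homOfLE inf_le_left) ?_ a b
    fun i => h i _ inf_le_left inf_le_right
  intro x hx
  obtain ⟨i, hi⟩ := Opens.mem_iSup.1 (hV hx)
  exact Opens.mem_iSup.2 ⟨i, hx, hi⟩

theorem appTop_eq_appLE {A B : Scheme.{u}} (f : A ⟶ B) : f.appTop = f.appLE ⊤ ⊤ le_top := by
  simp [Scheme.Hom.appLE]

theorem IsSec.locus_pow {k : ℕ} {c : d.Fam} {m : ℕ} (hm : 0 < m) : d.locus (c ^ m) = d.locus c :=
  iSup_congr fun i => X.basicOpen_pow (c i) hm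

end Cyc

variable [Fintype ι] [QuasiSeparatedSpace X] (g : T ⟶ X) [IsClosedImmersion g] {n : ℕ}

/-- The global functions act on families downstairs. -/
@[reducible] def scal (d : Cyc X ι) : Algebra Γ(X, ⊤) (d.pull g).Fam := ((d.pb g).comp d.cst).toAlgebra

/-- The liftable families of degree `q`. -/
def Lft (d : Cyc X ι) (n q : ℕ) :
    letI := scal g d
    Submodule Γ(X, ⊤) (d.pull g).Fam :=
  letI := scal g d
  { carrier := {c | ∃ C : d.Fam, d.IsSec (q * n) C ∧ d.pb g C = c}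
    add_mem' := fun ⟨C, hC, hC'⟩ ⟨D, hD, hD'⟩ => ⟨C + D, hC.add hD, by rw [map_add, hC', hD']⟩
    zero_mem' := ⟨0, Cyc.IsSec.zero _, map_zero _⟩
    smul_mem' := fun a _ ⟨C, hC, hC'⟩ => ⟨d.cst a * C, ((Cyc.isSec_cst a).mul hC).cast (zero_add _),
      by rw [map_mul, hC', Algebra.smul_def]; rfl⟩ }

/-- Lifting a section times a high power of a section with affine locus. -/
theorem lift_single {σ : d.Fam} (hσ : d.IsSec n σ) (haff : IsAffineOpen (d.locus σ)) {q : ℕ}
    {γ : (d.pull g).Fam} (hγ : (d.pull g).IsSec (q * n) γ) :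
    ∃ N₀, ∀ N, N₀ ≤ N → ∃ C : d.Fam, d.IsSec ((q + N) * n) C ∧ d.pb g C = d.pb g σ ^ N * γ := by
  let σb := d.pb g σ
  have hσb : (d.pull g).IsSec n σb := hσ.pb g
  have hloc : (d.pull g).locus σb = g ⁻¹ᵁ d.locus σ := Cyc.locus_pb g σ
  obtain ⟨f, hf⟩ := Cyc.exists_quot hσb hγ
  obtain ⟨a, ha⟩ := g.app_surjective (d.locus σ) haff (rres hloc.ge f)
  obtain ⟨N₁, hext⟩ := Cyc.exists_extend_fun hσ a
  obtain ⟨C, hC, hC'⟩ := hext (N₁ + q) (Nat.le_add_right _ _)
  have hzero : ∀ i, rres ((T.basicOpen_le (σb i)) : T.basicOpen (σb i) ≤ (d.pull g).W i)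
      ((d.pb g C - σb ^ N₁ * γ) i) = 0 := by
    intro i
    have hb : T.basicOpen (σb i) = g ⁻¹ᵁ X.basicOpen (σ i) := (Scheme.preimage_basicOpen g (σ i)).symm
    have hle : T.basicOpen (σb i) ≤ g ⁻¹ᵁ d.locus σ := hb.le.trans (g.preimage_mono (Cyc.basicOpen_le_locus σ i))
    have e1 := congrArg (fun z => rres hb.le (g.app (X.basicOpen (σ i)) z)) (hC' i)
    simp only [map_mul, map_pow, Cyc.app_rres, rres_rres, ha] at e1
    have e2 := hf i
    show rres (T.basicOpen_le (g.app (d.W i) (σ i))) (g.app (d.W i) (C i) - g.app (d.W i) (σ i) ^ N₁ * γ i) = 0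
    simp only [Cyc.pb_apply, σb] at e1 e2
    rw [map_sub, map_mul, map_pow, sub_eq_zero]
    refine e1.trans ((congrArg (· * _) (pow_add _ N₁ q)).trans ?_)
    rw [mul_assoc]
    exact congrArg (_ * ·) e2.symm
  obtain ⟨P, hP⟩ := Cyc.exists_pow_mul_eq_zero σb _ hzero
  refine ⟨N₁ + P, fun N hN => ?_⟩
  obtain ⟨r, hPr, rfl⟩ : ∃ r, P ≤ r ∧ N = r + N₁ := ⟨N - N₁, by omega, by omega⟩
  refine ⟨σ ^ r * C, ((hσ.pow r).mul hC).cast (by ring), ?_⟩
  have h1 := hP r hPr
  rw [mul_sub, sub_eq_zero] at h1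
  rw [map_mul, map_pow, show d.pb g σ = σb from rfl, h1, pow_add]
  ring

variable {R : Type u} [CommRing R] (p : X ⟶ Spec (CommRingCat.of R)) [UniversallyClosed (g ≫ p)]
  [Fintype κ] {σ : κ → d.Fam} (hσ : ∀ k, d.IsSec n (σ k)) (haff : ∀ k, IsAffineOpen (d.locus (σ k)))
  (hcov : ∀ w : T, ∃ k, g w ∈ d.locus (σ k))
include hσ haff hcov

omit haff in
theorem le_iSup_locus : (⊤ : T.Opens) ≤ ⨆ k, g ⁻¹ᵁ d.locus (σ k) := fun w _ => by
  obtain ⟨k, hk⟩ := hcov w
  exact Opens.mem_iSup.2 ⟨k, hk⟩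

include p in
/-- A power of a section downstairs is a form of positive degree in the given sections. -/
theorem exists_equation {t : (d.pull g).Fam} (ht : (d.pull g).IsSec n t)
    (htaff : IsAffineOpen ((d.pull g).locus t)) :
    letI := scal g d
    ∃ E, 1 ≤ E ∧ t ^ E ∈ ⨆ a ∈ Finset.Icc 1 E,
      (Submodule.span Γ(X, ⊤) (Set.range fun k => d.pb g (σ k))) ^ a * Submodule.span Γ(X, ⊤) {t ^ (E - a)} := by
  letI := scal g d
  let O := (d.pull g).locus t
  let σb : κ → (d.pull g).Fam := fun k => d.pb g (σ k)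
  have hσb : ∀ k, (d.pull g).IsSec n (σb k) := fun k => (hσ k).pb g
  choose f hf using fun k => Cyc.exists_quot (N := 1) ht ((hσb k).cast (one_mul n).symm)
  letI : Algebra Γ(X, ⊤) Γ(T, O) := ((rres (le_top : O ≤ ⊤)).hom.comp g.appTop.hom).toAlgebra
  have hval : ∀ (K : Type u) [Field K] (φ : Γ(T, O) →+* K) (V : ValuationSubring K),
      (∀ a : Γ(X, ⊤), φ (algebraMap _ _ a) ∈ V) → (∀ k, φ (f k) ∈ V.nonunits) → False := by
    intro K _ φ V hVG hVf
    let q₀ : CommRingCat.of R ⟶ Γ(T, O) :=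
      (Scheme.ΓSpecIso (CommRingCat.of R)).inv ≫ p.appTop ≫ g.appTop ≫ rres le_top
    have hq₀ : ∀ r, φ (q₀ r) ∈ V := fun r => hVG _
    let i₂ : Spec (CommRingCat.of V) ⟶ Spec (CommRingCat.of R) :=
      Spec.map (CommRingCat.ofHom ((φ.comp q₀.hom).codRestrict V.toSubring hq₀))
    let i₁ : Spec (CommRingCat.of K) ⟶ T := Spec.map (CommRingCat.ofHom φ) ≫ htaff.fromSpec
    have hfs : htaff.fromSpec ≫ g ≫ p = Spec.map q₀ := by
      rw [← IsAffineOpen.SpecMap_appLE_fromSpec (g ≫ p) (isAffineOpen_top _) htaff le_top,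
        IsAffineOpen.fromSpec_top, Scheme.isoSpec_Spec_inv, ← Spec.map_comp]
      congr 1
    have hsq : CommSq i₁ (Spec.map (CommRingCat.ofHom (algebraMap V K))) (g ≫ p) i₂ := ⟨by
      simp only [i₁, i₂, Category.assoc, hfs, ← Spec.map_comp]
      rfl⟩
    obtain ⟨l, hl, -⟩ := ((show ValuativeCriterion.Existence (g ≫ p) from
      ((UniversallyClosed.eq_valuativeCriterion ▸ ‹UniversallyClosed (g ≫ p)› :
        (ValuativeCriterion.Existence ⊓ @QuasiCompact : MorphismProperty Scheme) (g ≫ p))).1)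
      { R := V, K := K, i₁ := i₁, i₂ := i₂, commSq := hsq }).exists_lift
    let c₀ : Spec (CommRingCat.of V) := IsLocalRing.closedPoint V
    obtain ⟨k, hk⟩ := hcov (l c₀)
    let O' := (d.pull g).locus (σb k)
    have hlO' : ⊤ ≤ l ⁻¹ᵁ O' := by
      intro x _
      have h1 : x ⤳ c₀ := (PrimeSpectrum.le_iff_specializes _ _).1 (IsLocalRing.le_maximalIdeal x.isPrime.ne_top)
      exact (h1.map l.continuous).mem_open O'.2 ((Cyc.locus_pb g (σ k)).ge hk)
    obtain ⟨a, ha⟩ := Cyc.exists_quot (N := 1) (hσb k) (ht.cast (one_mul n).symm)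
    have hprod : rres (inf_le_right : O' ⊓ O ≤ O) (f k) * rres (inf_le_left : O' ⊓ O ≤ O') a = 1 := by
      refine Cyc.eq_of_locus (inf_le_right : O' ⊓ O ≤ O) fun i W hW hWi => ?_
      have hWσ : W ≤ T.basicOpen (σb k i) := fun x hx =>
        ((hσb k).locus_inf i).le ⟨(hW hx).1, T.basicOpen_le _ (hWi hx)⟩
      have hu : IsUnit (rres (hWi.trans (T.basicOpen_le _)) (t i)) :=
        ht.isUnit_res (hW.trans inf_le_right) _
      have e1 := congrArg (rres hWi) (hf k i)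
      have e2 := congrArg (rres hWσ) (ha i)
      simp only [map_mul, map_pow, rres_rres, pow_one] at e1 e2
      rw [map_mul, rres_rres, rres_rres, map_one]
      refine hu.mul_left_cancel ?_
      rw [← mul_assoc, mul_one]
      refine Eq.trans ?_ e2.symm
      rw [show rres (hWσ.trans (T.basicOpen_le _)) (σb k i) = rres (hWi.trans (T.basicOpen_le _)) (σb k i) from rfl,
        e1]
    let e₁ : (⊤ : (Spec (CommRingCat.of K)).Opens) ≤ i₁ ⁻¹ᵁ O := fun x _ => by
      show i₁ x ∈ O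
      rw [Scheme.Hom.comp_apply]
      exact htaff.range_fromSpec.le ⟨_, rfl⟩
    let ηV := Spec.map (CommRingCat.ofHom (algebraMap V K))
    have e₂ : (⊤ : (Spec (CommRingCat.of K)).Opens) ≤ i₁ ⁻¹ᵁ O' := fun x _ => by
      show i₁ x ∈ O'
      rw [show i₁ = ηV ≫ l from hl.symm, Scheme.Hom.comp_apply]
      exact hlO' trivial
    have h1 := congrArg (i₁.appLE (O' ⊓ O) ⊤ (le_inf e₂ e₁)).hom hprod
    rw [map_mul, map_one] at h1
    have hA : ∀ b, i₁.appLE (O' ⊓ O) ⊤ (le_inf e₂ e₁) (rres inf_le_right b) = i₁.appLE O ⊤ e₁ b := fun b =>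
      ConcreteCategory.congr_hom (i₁.map_appLE (le_inf e₂ e₁) (homOfLE inf_le_right).op) b
    have hB : ∀ b, i₁.appLE (O' ⊓ O) ⊤ (le_inf e₂ e₁) (rres inf_le_left b) = i₁.appLE O' ⊤ e₂ b := fun b =>
      ConcreteCategory.congr_hom (i₁.map_appLE (le_inf e₂ e₁) (homOfLE inf_le_left).op) b
    rw [hA, hB] at h1
    have hC : ∀ b, (Scheme.ΓSpecIso (CommRingCat.of K)).hom (i₁.appLE O ⊤ e₁ b) = φ b := fun b => by
      have h3 : htaff.fromSpec.appLE O ⊤ (htaff.fromSpec_preimage_self.ge) = (Scheme.ΓSpecIso Γ(T, O)).inv := by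
        rw [Scheme.Hom.appLE, htaff.fromSpec_app_self]
        simp only [Category.assoc]
        erw [← Functor.map_comp, Subsingleton.elim (_ ≫ _) (𝟙 _), CategoryTheory.Functor.map_id, Category.comp_id]
      have h4 : i₁.appLE O ⊤ e₁ = (Scheme.ΓSpecIso Γ(T, O)).inv ≫ (Spec.map (CommRingCat.ofHom φ)).appTop := by
        rw [← h3, Cyc.appTop_eq_appLE]
        exact (Scheme.Hom.appLE_comp_appLE _ _ _ _ _ _ _).symm
      rw [h4]
      exact (ConcreteCategory.congr_hom (Scheme.ΓSpecIso_naturality (CommRingCat.ofHom φ))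
        ((Scheme.ΓSpecIso Γ(T, O)).inv b)).trans (congrArg φ (Iso.inv_hom_id_apply _ b))
    have hD : (Scheme.ΓSpecIso (CommRingCat.of K)).hom (i₁.appLE O' ⊤ e₂ a) ∈ V := by
      have h4 : i₁.appLE O' ⊤ e₂ = l.appLE O' ⊤ hlO' ≫ ηV.appTop := by
        rw [Cyc.appTop_eq_appLE, Scheme.Hom.appLE_comp_appLE]
        simp only [ηV, hl]
      rw [h4]
      have h5 := ConcreteCategory.congr_hom (Scheme.ΓSpecIso_naturality (CommRingCat.ofHom (algebraMap V K)))
        (l.appLE O' ⊤ hlO' a)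
      simp only [CommRingCat.comp_apply] at h5 ⊢
      refine (congrArg (· ∈ V) h5).mpr ?_
      exact SetLike.coe_mem _
    have h2 := congrArg (Scheme.ΓSpecIso (CommRingCat.of K)).hom h1
    rw [map_mul, map_one, hC] at h2
    have h6 : V.valuation (φ (f k)) < 1 := (ValuationSubring.mem_nonunits_iff _).1 (hVf k)
    have h7 := congrArg V.valuation h2
    rw [map_mul, map_one] at h7
    exact absurd h7 ((mul_le_of_le_one_right' ((V.valuation_le_one_iff _).2 hD)).trans_lt h6).ne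
  obtain ⟨E, hE⟩ := exists_one_mem f hval
  let S : Submodule Γ(X, ⊤) (d.pull g).Fam := Submodule.span Γ(X, ⊤) (Set.range σb)
  let Q : ℕ → Γ(T, O) → Prop := fun a h => ∃ h' ∈ S ^ a, ∀ i, rres (T.basicOpen_le (t i)) (h' i) =
    rres (T.basicOpen_le (t i)) (t i) ^ a * rres (Cyc.basicOpen_le_locus t i) h
  have hQalg : ∀ (a : Γ(X, ⊤)) (i : ι), rres (T.basicOpen_le (t i)) (algebraMap Γ(X, ⊤) (d.pull g).Fam a i) =
      rres (Cyc.basicOpen_le_locus t i) (algebraMap Γ(X, ⊤) Γ(T, O) a) := fun a i => by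
    show rres _ (d.pb g (d.cst a) i) = rres _ (rres le_top (g.appTop a))
    rw [Cyc.pb_cst]
    exact (rres_rres _ _ _).trans (rres_rres _ _ _).symm
  have hQadd : ∀ a x y, Q a x → Q a y → Q a (x + y) := by
    rintro a x y ⟨x', hx, hx'⟩ ⟨y', hy, hy'⟩
    refine ⟨x' + y', add_mem hx hy, fun i => ?_⟩
    simp only [Pi.add_apply, map_add, hx' i, hy' i, mul_add]
  have hQzero : ∀ a, Q a 0 := fun a => ⟨0, zero_mem _, fun i => by simp⟩
  have hQsmul : ∀ a (r : Γ(X, ⊤)) x, Q a x → Q a (r • x) := by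
    rintro a r x ⟨x', hx, hx'⟩
    refine ⟨r • x', Submodule.smul_mem _ r hx, fun i => ?_⟩
    simp only [Algebra.smul_def, Pi.mul_apply, map_mul, hx' i, hQalg]
    ring
  have hQ : ∀ a h, h ∈ (Submodule.span Γ(X, ⊤) (Set.range f)) ^ a → Q a h := by
    intro a
    induction a with
    | zero =>
      intro h hh
      rw [pow_zero] at hh
      obtain ⟨r, rfl⟩ := Submodule.mem_one.1 hh
      refine ⟨algebraMap _ _ r, by rw [pow_zero]; exact Submodule.mem_one.2 ⟨r, rfl⟩, fun i => ?_⟩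
      rw [pow_zero, one_mul, hQalg]
    | succ a ih =>
      intro h hh
      rw [pow_succ] at hh
      refine Submodule.mul_induction_on hh (fun x hx y hy => ?_) fun x y hx hy => hQadd _ _ _ hx hy
      induction hy using Submodule.span_induction with
      | mem y hy =>
        obtain ⟨k, rfl⟩ := hy
        obtain ⟨x', hxm, hx'⟩ := ih x hx
        refine ⟨x' * σb k, pow_succ S a ▸ Submodule.mul_mem_mul hxm (Submodule.subset_span ⟨k, rfl⟩), fun i => ?_⟩
        simp only [Pi.mul_apply, map_mul, hx' i, hf k i, pow_one, pow_succ]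
        ring
      | zero => rw [mul_zero]; exact hQzero _
      | add y z _ _ hy hz => rw [mul_add]; exact hQadd _ _ _ hy hz
      | smul r y _ hy => rw [mul_smul_comm]; exact hQsmul _ r _ hy
  let J : Submodule Γ(X, ⊤) (d.pull g).Fam :=
    ⨆ a ∈ Finset.Icc 1 E, S ^ a * Submodule.span Γ(X, ⊤) {t ^ (E - a)}
  have hone : ∃ y ∈ J, ∀ i, rres (T.basicOpen_le (t i)) (y i) =
      rres (T.basicOpen_le (t i)) (t i) ^ E * rres (Cyc.basicOpen_le_locus t i) (1 : Γ(T, O)) := by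
    rw [Submodule.mem_iSup_finset_iff_exists_sum] at hE
    obtain ⟨μ, hμ⟩ := hE
    choose h' hh' hh'' using fun a => hQ a (μ a : Γ(T, O)) (μ a).2
    refine ⟨∑ a ∈ Finset.Icc 1 E, h' a * t ^ (E - a), Submodule.sum_mem _ fun a ha =>
      Submodule.mem_iSup_of_mem a (Submodule.mem_iSup_of_mem ha
        (Submodule.mul_mem_mul (hh' a) (Submodule.mem_span_singleton_self _))), fun i => ?_⟩
    rw [← hμ, Finset.sum_apply, map_sum, map_sum, Finset.mul_sum]
    refine Finset.sum_congr rfl fun a ha => ?_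
    simp only [Pi.mul_apply, Pi.pow_apply, map_mul, map_pow, hh'' a i]
    rw [mul_right_comm, ← pow_add, Nat.add_sub_cancel' (Finset.mem_Icc.1 ha).2]
  obtain ⟨y, hy, hy'⟩ := hone
  obtain ⟨P, hP⟩ := Cyc.exists_pow_mul_eq_zero t (y - t ^ E) (fun i => by
    simp only [Pi.sub_apply, Pi.pow_apply, map_sub, map_pow, hy' i, map_one, mul_one, sub_self])
  have hP' := hP (P + 1) (Nat.le_add_right _ _)
  rw [mul_sub, sub_eq_zero] at hP'
  refine ⟨E + (P + 1), by omega, ?_⟩
  rw [pow_add, mul_comm, ← hP']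
  have h1 : t ^ (P + 1) * y ∈ Submodule.span Γ(X, ⊤) {t ^ (P + 1)} * J :=
    Submodule.mul_mem_mul (Submodule.mem_span_singleton_self _) hy
  refine (?_ : _ ≤ (_ : Submodule Γ(X, ⊤) (d.pull g).Fam)) h1
  simp only [J, Submodule.mul_iSup]
  refine iSup₂_le fun a ha => ?_
  obtain ⟨ha1, ha2⟩ := Finset.mem_Icc.1 ha
  refine le_iSup₂_of_le a (Finset.mem_Icc.2 ⟨ha1, by omega⟩) ?_
  rw [mul_left_comm, Submodule.span_mul_span, Set.singleton_mul_singleton, ← pow_add,
    show P + 1 + (E - a) = E + (P + 1) - a by omega]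

include p in
/-- High powers lift. -/
theorem lift_pow {t : (d.pull g).Fam} (ht : (d.pull g).IsSec n t) (htaff : IsAffineOpen ((d.pull g).locus t))
    {q : ℕ} {γ : (d.pull g).Fam} (hγ : (d.pull g).IsSec (q * n) γ) :
    ∃ m₀, ∀ m, m₀ ≤ m → ∃ C : d.Fam, d.IsSec ((q + m) * n) C ∧ d.pb g C = γ * t ^ m := by
  letI := scal g d
  obtain ⟨E, -, hE⟩ := exists_equation g p hσ haff hcov ht htaff
  refine exists_raise (Lft := fun q => Lft g d n q) (s := fun k => d.pb g (σ k)) ?_ ?_ ?_ t hE γ q ?_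
  · intro a b
    rw [Submodule.mul_le]
    rintro _ ⟨C, hC, rfl⟩ _ ⟨D, hD, rfl⟩
    exact ⟨C * D, (hC.mul hD).cast (by ring), map_mul _ _ _⟩
  · intro x hx
    obtain ⟨r, rfl⟩ := Submodule.mem_one.1 hx
    exact ⟨d.cst r, (Cyc.isSec_cst r).cast (zero_mul n).symm, rfl⟩
  · exact fun k => ⟨σ k, (hσ k).cast (one_mul n).symm, rfl⟩
  · intro j k
    obtain ⟨N₀, hN₀⟩ := lift_single g (hσ k) (haff k) (q := q + j)
      (γ := γ * t ^ j) ((hγ.mul (ht.pow j)).cast (by ring))
    exact ⟨N₀, fun N hN => by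
      obtain ⟨C, hC, hC'⟩ := hN₀ N hN
      exact ⟨C, hC, by rw [hC', mul_assoc]⟩⟩

include p in
/-- A high power lifts to a section with affine locus. -/
theorem exists_affine_lift {t : (d.pull g).Fam} (hn : 0 < n) (ht : (d.pull g).IsSec n t)
    (htaff : IsAffineOpen ((d.pull g).locus t)) :
    ∃ (m : ℕ) (C : d.Fam), 0 < m ∧ d.IsSec (m * n) C ∧ d.pb g C = t ^ m ∧ IsAffineOpen (d.locus C) := by
  obtain ⟨m₁, hm₁⟩ := lift_pow g p hσ haff hcov ht htaff (q := 0) (γ := 1) (Cyc.IsSec.one.cast (zero_mul n).symm)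
  let m := m₁ + 1
  obtain ⟨s, hs, hs'⟩ := hm₁ m (Nat.le_add_right _ _)
  replace hs : d.IsSec (m * n) s := hs.cast (by rw [zero_add])
  rw [one_mul] at hs'
  let U := d.locus s
  have hO : g ⁻¹ᵁ U = (d.pull g).locus t := by
    rw [← Cyc.locus_pb g s, hs', Cyc.IsSec.locus_pow (c := t) (k := n) (Nat.succ_pos m₁)]
  -- the restriction to the closed subscheme is onto
  haveI : QuasiSeparatedSpace T := quasiSeparatedSpace_of_quasiSeparated g
  have hsurj : ∀ b : Γ(T, g ⁻¹ᵁ U), ∃ a : Γ(X, U), g.app U a = b := by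
    intro b
    obtain ⟨N₀, hN₀⟩ := Cyc.exists_extend_fun ht (rres hO.ge b)
    obtain ⟨γ, hγ, hγ'⟩ := hN₀ N₀ le_rfl
    obtain ⟨m₂, hm₂⟩ := lift_pow g p hσ haff hcov ht htaff (q := N₀) hγ
    let j := N₀ + m₂
    have hj : N₀ + m₂ ≤ m * j := Nat.le_mul_of_pos_left j (Nat.succ_pos m₁)
    obtain ⟨C, hC, hC'⟩ := hm₂ (m * j - N₀) (by omega)
    obtain ⟨a, ha⟩ := Cyc.exists_quot hs (N := j) (hC.cast (by rw [Nat.add_sub_cancel' (by omega)]; ring))
    refine ⟨a, Cyc.eq_of_locus (hO.le) fun i W hW hWi => ?_⟩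
    have hWs : W ≤ g ⁻¹ᵁ X.basicOpen (s i) := by
      rw [Scheme.preimage_basicOpen, show g.app (d.W i) (s i) = d.pb g s i from rfl, hs']
      exact hWi.trans (T.basicOpen_pow (t i) (Nat.succ_pos m₁)).ge
    have e1 := congrArg (fun z => rres hWs (g.app (X.basicOpen (s i)) z)) (ha i)
    have e2 := congrArg (rres hWi) (hγ' i)
    have e3 := congrFun hC' i
    have e4 := congrFun hs' i
    simp only [Pi.mul_apply, Pi.pow_apply, Cyc.pb_apply] at e3 e4
    simp only [map_mul, map_pow, Cyc.app_rres, rres_rres, e3, e4] at e1 e2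
    have hu : IsUnit (rres (hWi.trans (T.basicOpen_le _)) (t i)) := ht.isUnit_res (hW.trans hO.le) _
    refine ((hu.pow m).pow j).mul_left_cancel ?_
    refine e1.symm.trans ?_
    rw [e2, mul_right_comm, ← pow_add, ← pow_mul, Nat.add_sub_cancel' (by omega : N₀ ≤ m * j)]
  -- functions with affine loci
  have hquot : ∀ k, ∃ φ : Γ(X, U), X.basicOpen φ = d.locus (σ k) ⊓ U := by
    intro k
    obtain ⟨φ, hφ⟩ := Cyc.exists_quot hs (N := 1) (((hσ k).pow m).cast (by ring))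
    refine ⟨φ, le_antisymm ?_ ?_⟩
    all_goals intro x hx
    all_goals obtain ⟨i, hxi⟩ := d.mem_cov x
    · have hxU : x ∈ U := X.basicOpen_le _ hx
      have hxs : x ∈ X.basicOpen (s i) := (hs.locus_inf i).le ⟨hxU, hxi⟩
      have h1 := congrArg X.basicOpen (hφ i)
      rw [Scheme.basicOpen_res, Scheme.basicOpen_mul, X.basicOpen_pow _ one_pos, Scheme.basicOpen_res,
        Scheme.basicOpen_res] at h1
      have h2 := (h1.ge ⟨⟨hxs, hxs⟩, hxs, hx⟩).2
      rw [Pi.pow_apply, X.basicOpen_pow _ (Nat.succ_pos m₁)] at h2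
      exact ⟨Cyc.basicOpen_le_locus _ i h2, hxU⟩
    · have hxs : x ∈ X.basicOpen (s i) := (hs.locus_inf i).le ⟨hx.2, hxi⟩
      have h1 := congrArg X.basicOpen (hφ i)
      rw [Scheme.basicOpen_res, Scheme.basicOpen_mul, X.basicOpen_pow _ one_pos, Scheme.basicOpen_res,
        Scheme.basicOpen_res, Pi.pow_apply, X.basicOpen_pow _ (Nat.succ_pos m₁)] at h1
      exact (h1.le ⟨hxs, ((hσ k).locus_inf i).le ⟨hx.1, hxi⟩⟩).2.2
  choose φ hφ using hquot
  have hφaff : ∀ k, IsAffineOpen (X.basicOpen (φ k)) := fun k => by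
    rw [hφ k]
    haveI : IsAffineHom U.ι := by
      refine isAffineHom_of_forall_exists_isAffineOpen _ fun x => ?_
      obtain ⟨i, hi⟩ := d.mem_cov x
      refine ⟨d.W i, hi, d.aff i, ?_⟩
      rw [U.ι.isAffineOpen_iff_of_isOpenImmersion.symm, Scheme.Hom.image_preimage_eq_opensRange_inf,
        Scheme.Opens.opensRange_ι, hs.locus_inf i]
      exact (d.aff i).basicOpen _
    have h := ((haff k).preimage U.ι).image_of_isOpenImmersion U.ι
    rwa [Scheme.Hom.image_preimage_eq_opensRange_inf, Scheme.Opens.opensRange_ι, inf_comm] at h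
  have htop : Ideal.span (Set.range fun k => g.app U (φ k)) = ⊤ := by
    have haffU : IsAffineOpen (g ⁻¹ᵁ U) := hO ▸ htaff
    rw [← haffU.self_le_iSup_basicOpen_iff]
    intro w hw
    obtain ⟨k, hk⟩ := hcov w
    refine Opens.mem_iSup.2 ⟨⟨_, k, rfl⟩, ?_⟩
    rw [← Scheme.preimage_basicOpen, hφ k]
    exact ⟨hk, hw⟩
  obtain ⟨a, ha⟩ := Submodule.mem_span_range_iff_exists_fun _ |>.1
    ((htop ▸ Submodule.mem_top : (1 : Γ(T, g ⁻¹ᵁ U)) ∈ Ideal.span (Set.range fun k => g.app U (φ k))))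
  choose b hb using fun k => hsurj (a k)
  let Φ : Γ(X, U) := ∑ k, b k * φ k
  have hΦ : g.app U Φ = 1 := by
    simp only [Φ, map_sum, map_mul, hb]
    simpa only [smul_eq_mul] using ha
  have hΦaff : IsAffineOpen (X.basicOpen Φ) := by
    have hV : X.basicOpen Φ ≤ U := X.basicOpen_le _
    let V := X.basicOpen Φ
    let ψ : κ → Γ(V.toScheme, ⊤) := fun k => V.topIso.inv (rres hV (φ k))
    show IsAffine V.toScheme
    refine isAffine_of_isAffineOpen_basicOpen (Set.range ψ) ?_ ?_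
    · have hu : IsUnit (V.topIso.inv (rres hV Φ)) :=
        (RingedSpace.isUnit_res_basicOpen X.toRingedSpace Φ).map V.topIso.inv.hom
      refine Ideal.eq_top_of_isUnit_mem _ ?_ hu
      simp only [Φ, map_sum, map_mul]
      exact Ideal.sum_mem _ fun k _ => Ideal.mul_mem_left _ _ (Ideal.subset_span ⟨k, rfl⟩)
    · rintro _ ⟨k, rfl⟩
      rw [← V.ι.isAffineOpen_iff_of_isOpenImmersion]
      rw [show V.ι ''ᵁ V.toScheme.basicOpen (ψ k) = X.basicOpen (rres hV (φ k)) from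
        V.ι_image_basicOpen_topIso_inv _, Scheme.basicOpen_res]
      haveI : IsAffineHom U.ι := by
        refine isAffineHom_of_forall_exists_isAffineOpen _ fun x => ?_
        obtain ⟨i, hi⟩ := d.mem_cov x
        refine ⟨d.W i, hi, d.aff i, ?_⟩
        rw [U.ι.isAffineOpen_iff_of_isOpenImmersion.symm, Scheme.Hom.image_preimage_eq_opensRange_inf,
          Scheme.Opens.opensRange_ι, hs.locus_inf i]
        exact (d.aff i).basicOpen _
      have h1 : V ⊓ X.basicOpen (φ k) = X.basicOpen (rres (X.basicOpen_le (φ k)) Φ) := by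
        rw [Scheme.basicOpen_res, inf_comm]
      rw [h1]
      exact (hφaff k).basicOpen _
  obtain ⟨N₀, hN₀⟩ := Cyc.exists_extend_fun hs Φ
  obtain ⟨c, hc, hc'⟩ := hN₀ (N₀ + 1) (Nat.le_succ _)
  obtain ⟨P, hP⟩ := Cyc.exists_pow_mul_eq_zero (d.pb g s) (d.pb g c - d.pb g s ^ (N₀ + 1)) (fun i => by
    have hb : T.basicOpen (d.pb g s i) = g ⁻¹ᵁ X.basicOpen (s i) := (Scheme.preimage_basicOpen g (s i)).symm
    have e1 := congrArg (fun z => rres hb.le (g.app (X.basicOpen (s i)) z)) (hc' i)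
    simp only [map_mul, map_pow, Cyc.app_rres, rres_rres] at e1
    rw [show g.app (d.locus s) Φ = 1 from hΦ, map_one, mul_one] at e1
    show rres (T.basicOpen_le (g.app (d.W i) (s i))) (g.app (d.W i) (c i) - g.app (d.W i) (s i) ^ (N₀ + 1)) = 0
    rw [map_sub, map_pow, sub_eq_zero]
    exact e1)
  refine ⟨m * (P + 1 + (N₀ + 1)), s ^ (P + 1) * c, Nat.mul_pos (Nat.succ_pos _) (by omega),
    ((hs.pow (P + 1)).mul hc).cast (by ring), ?_, ?_⟩
  · have h1 := hP (P + 1) (Nat.le_succ _)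
    rw [mul_sub, sub_eq_zero] at h1
    rw [map_mul, map_pow, h1, ← pow_add, hs', ← pow_mul]
  · have hloc : d.locus (s ^ (P + 1) * c) = X.basicOpen Φ := by
      have key : ∀ i, X.basicOpen ((s ^ (P + 1) * c) i) = X.basicOpen (s i) ⊓ X.basicOpen Φ := fun i => by
        have h1 := congrArg X.basicOpen (hc' i)
        rw [Scheme.basicOpen_res, Scheme.basicOpen_mul, X.basicOpen_pow _ (Nat.succ_pos N₀), Scheme.basicOpen_res,
          Scheme.basicOpen_res, inf_idem] at h1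
        rw [Pi.mul_apply, Pi.pow_apply, Scheme.basicOpen_mul, X.basicOpen_pow _ (Nat.succ_pos P), h1]
        ext x
        exact ⟨fun h => ⟨h.1, h.2.2⟩, fun h => ⟨h.1, h.1, h.2⟩⟩
      refine le_antisymm (iSup_le fun i => (key i).trans_le inf_le_right) fun x hx => ?_
      obtain ⟨i, hi⟩ := Opens.mem_iSup.1 (show x ∈ d.locus s from X.basicOpen_le Φ hx)
      exact Cyc.basicOpen_le_locus _ i ((key i).ge ⟨hi, hx⟩)
    exact hloc ▸ hΦaff

end Groth.Agent.Fibres16.NormAmp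

end
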